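import Cfsg.Agent.H854.ClassBasic

/-!
# Uniqueness of the generating class of 3-transpositions when `O₂(G)` is elementary abelian and
self-centralising, `Z(G) = 1`
-/

set_option autoImplicit false
set_option linter.style.haveILetI false

namespace Cfsg.Agent.H854.Unique

open Subgroup TM ClassBasic

section module

variable {G : Type*} [Group G] (V : Subgroup G)

/-- commutative group structure on a subgroup whose elements commute -/
abbrev commGroupOf (hc : ∀ a ∈ V, ∀ b ∈ V, a * b = b * a) : CommGroup V :=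
  { (inferInstance : Group V) with
    mul_comm := fun a b => Subtype.ext (hc a a.2 b b.2) }

/-- additive version -/
abbrev addCommGroupOf (hc : ∀ a ∈ V, ∀ b ∈ V, a * b = b * a) : AddCommGroup (Additive V) :=
  { (inferInstance : AddGroup (Additive V)) with
    add_comm := fun a b => by
      apply Additive.toMul.injective
      exact Subtype.ext (hc _ (Additive.toMul a).2 _ (Additive.toMul b).2) }

/-- the action through a homomorphism to the automorphism group -/
abbrev actOf {H : Type*} [Group H] (φ : H →* MulAut V) : DistribMulAction H (Additive V) where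
  smul h m := Additive.ofMul (φ h (Additive.toMul m))
  one_smul m := by
    change Additive.ofMul (φ 1 (Additive.toMul m)) = m
    rw [map_one]; rfl
  mul_smul a b m := by
    change Additive.ofMul (φ (a * b) (Additive.toMul m)) = _
    rw [map_mul]; rfl
  smul_zero a := by
    change Additive.ofMul (φ a (Additive.toMul (0 : Additive V))) = 0
    rw [toMul_zero, map_one, ofMul_one]
  smul_add a m n := by
    change Additive.ofMul (φ a (Additive.toMul (m + n))) = _
    rw [toMul_add, map_mul]; rfl

end module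

variable {G : Type*} [Group G] [Finite G] {D E : Set G}

theorem meet (hD : Cls D) (hE : Cls E) (hZ : ∀ x : G, (∀ g : G, g * x = x * g) → x = 1)
    (hC : ∀ x : G, (∀ v ∈ Cfsg.pCore 2 G, v * x = x * v) → x ∈ Cfsg.pCore 2 G)
    (hc : ∀ a ∈ Cfsg.pCore 2 G, ∀ b ∈ Cfsg.pCore 2 G, a * b = b * a)
    (h2 : ∀ a ∈ Cfsg.pCore 2 G, a * a = 1) : ∃ d ∈ D, d ∈ E := by
  classical
  have hVn : (Cfsg.pCore 2 G).Normal := Cfsg.Agent.Lib.Cores.pCore_normal 2
  have hVp : IsPGroup 2 (Cfsg.pCore 2 G) := Cfsg.Agent.Lib.Cores.pCore_isPGroup 2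
  have hOq : Cfsg.pCore 2 (G ⧸ Cfsg.pCore 2 G) = ⊥ := Cfsg.Agent.Lib.Cores.pCore_quotient_pCore 2
  have hrange' : ∀ x ∈ Cfsg.pCore 2 G, x ∈ Cfsg.pCore 2 G := fun _ h => h
  generalize hVdef : Cfsg.pCore 2 G = V at hVn hVp hC hc h2 hOq hrange'
  have hOV : ∀ x ∈ Cfsg.pCore 2 G, x ∈ V := fun x hx => hVdef ▸ hx
  letI : AddCommGroup (Additive V) := addCommGroupOf V hc
  letI actG : DistribMulAction G (Additive V) := actOf V MulAut.conjNormal
  have hsm : ∀ (g : G) (m : Additive V),
      ((Additive.toMul (g • m) : V) : G) = g * ((Additive.toMul m : V) : G) * g⁻¹ := by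
    intro g m
    exact MulAut.conjNormal_apply g _
  have hext : ∀ m n : Additive V, ((Additive.toMul m : V) : G) = ((Additive.toMul n : V) : G) →
      m = n := fun m n h => Additive.toMul.injective (Subtype.ext h)
  have hadd : ∀ m n : Additive V, ((Additive.toMul (m + n) : V) : G) =
      ((Additive.toMul m : V) : G) * ((Additive.toMul n : V) : G) := fun m n => rfl
  have htwo : ∀ m : Additive V, m + m = 0 := by
    intro m
    apply hext
    rw [hadd]
    exact h2 _ (Additive.toMul m).2
  -- G-level module structures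
  have hTM : ∀ {D : Set G}, Cls D → IsTM D (Additive V) := by
    intro D hD
    refine ⟨htwo, hD.sq, hD.conj, hD.braid, ?_, ?_⟩
    · intro d hd e he hde m
      apply hext
      rw [hsm, hadd, hsm]
      have hdd := hD.sq d hd
      have hee := hD.sq e he
      have hm := (Additive.toMul m).2
      generalize hx : ((Additive.toMul m : V) : G) = x at hm ⊢
      have hxx : x * x = 1 := h2 x hm
      have h3 := commute_conj_of_commute hD hVn hVp hd he hde hm
      rw [inv_of_sq hxx] at h3
      rw [inv_of_sq hdd, inv_of_sq hee]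
      calc e * (x * (d * x * d)) * e = (e * (x * d * x)) * (d * e) := by simp only [mul_assoc]
        _ = ((x * d * x) * e) * (e * d) := by rw [← h3, hde]
        _ = (x * d * x) * (e * e) * d := by simp only [mul_assoc]
        _ = x * (d * x * d) := by rw [hee, mul_one]; simp only [mul_assoc]
    · intro d hd e he hde m hm
      have h3 := congrArg (fun y : Additive V => ((Additive.toMul y : V) : G)) hm
      rw [hsm] at h3
      apply hext
      rw [hsm]
      have hmem := (Additive.toMul m).2
      generalize hx : ((Additive.toMul m : V) : G) = x at h3 hmem ⊢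
      have h4 : (d * e) * x = x * (d * e) := by
        rw [mul_inv_eq_iff_eq_mul] at h3
        exact h3
      have h5 := commute_of_commute_mul hD hVn hVp hd he hde hmem h4
      rw [h5, mul_inv_cancel_right]
  have tD := hTM hD
  have tE := hTM hE
  -- the embedding
  let I : StepTwo.Emb G (Additive V) :=
    { ι := fun m => ((Additive.toMul m : V) : G)
      zero := rfl
      add := fun m n => rfl
      inj := fun m n h => hext m n h
      smul := hsm
      range := fun x hx => ⟨Additive.ofMul ⟨x, hOV x hx⟩, rfl⟩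
      triv := by
        intro n m
        apply hext
        rw [hsm]
        rw [hc _ (Additive.toMul n).2 _ (Additive.toMul m).2, mul_inv_cancel_right] }
  -- the quotient action
  have htrivV : ∀ x ∈ V, MulAut.conjNormal (H := V) x = 1 := by
    intro x hx
    ext y
    rw [MulAut.conjNormal_apply, hc x hx y y.2, mul_inv_cancel_right]
    rfl
  let φ : G ⧸ V →* MulAut V := QuotientGroup.lift V MulAut.conjNormal
    (fun x hx => by rw [MonoidHom.mem_ker]; exact htrivV x hx)
  letI actQ : DistribMulAction (G ⧸ V) (Additive V) := actOf V φ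
  have hact : ∀ (g : G) (m : Additive V), ((g : G ⧸ V)) • m = g • m := fun g m => rfl
  have hQ : ∀ {D : Set G}, Cls D →
      IsTM ((fun x : G => (x : G ⧸ V)) '' D) (Additive V) := by
    intro D hD
    have t := hTM hD
    have hcomm : ∀ d ∈ D, ∀ e ∈ D, ((d : G ⧸ V) * (e : G ⧸ V) = (e : G ⧸ V) * (d : G ⧸ V)) →
        d * e = e * d := by
      intro d hd e he hde
      apply commute_of_mod hD hVp hd he
      rw [← QuotientGroup.eq_one_iff]
      have hdd := congrArg (fun x : G => (x : G ⧸ V)) (hD.sq d hd)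
      have hee := congrArg (fun x : G => (x : G ⧸ V)) (hD.sq e he)
      simp only [QuotientGroup.mk_mul, QuotientGroup.mk_one] at hdd hee ⊢
      calc (d : G ⧸ V) * e * (d * e) = (d : G ⧸ V) * (e * d) * e := by simp only [mul_assoc]
        _ = (d : G ⧸ V) * (d * e) * e := by rw [hde]
        _ = ((d : G ⧸ V) * d) * (e * e) := by simp only [mul_assoc]
        _ = 1 := by rw [hdd, hee, one_mul]
    refine ⟨htwo, ?_, ?_, ?_, ?_, ?_⟩
    · rintro _ ⟨d, hd, rfl⟩
      simp only
      rw [← QuotientGroup.mk_mul, hD.sq d hd, QuotientGroup.mk_one]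
    · intro g
      obtain ⟨g, rfl⟩ := QuotientGroup.mk'_surjective V g
      rintro _ ⟨d, hd, rfl⟩
      exact ⟨g * d * g⁻¹, hD.conj g d hd, rfl⟩
    · rintro _ ⟨d, hd, rfl⟩ _ ⟨e, he, rfl⟩
      rcases hD.braid d hd e he with h | h
      · left
        simp only
        rw [← QuotientGroup.mk_mul, h, QuotientGroup.mk_mul]
      · right
        simp only
        rw [← QuotientGroup.mk_mul, ← QuotientGroup.mk_mul, h, QuotientGroup.mk_mul,
          QuotientGroup.mk_mul]
    · rintro _ ⟨d, hd, rfl⟩ _ ⟨e, he, rfl⟩ hde m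
      exact t.comm d hd e he (hcomm d hd e he hde) m
    · rintro _ ⟨d, hd, rfl⟩ _ ⟨e, he, rfl⟩ hde m hm
      exact t.ncomm d hd e he (fun h => hde (by
        simp only
        rw [← QuotientGroup.mk_mul, h, QuotientGroup.mk_mul])) m hm
  have faith : ∀ g : G ⧸ V, (∀ m : Additive V, g • m = m) → g = 1 := by
    intro g
    obtain ⟨g, rfl⟩ := QuotientGroup.mk'_surjective V g
    intro hg
    rw [QuotientGroup.mk'_apply, QuotientGroup.eq_one_iff]
    apply hC
    intro v hv
    have h3 := hg (Additive.ofMul ⟨v, hv⟩)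
    have h4 := congrArg (fun y : Additive V => ((Additive.toMul y : V) : G)) h3
    have h5 := hsm g (Additive.ofMul ⟨v, hv⟩)
    have h6 : g * v * g⁻¹ = v := h5.symm.trans h4
    rw [mul_inv_eq_iff_eq_mul] at h6
    exact h6.symm
  have clQ : closure ((fun x : G => (x : G ⧸ V)) '' D) = ⊤ := by
    have h3 := MonoidHom.map_closure (QuotientGroup.mk' V) D
    rw [hD.gen, Subgroup.map_top_of_surjective _ (QuotientGroup.mk'_surjective V)] at h3
    exact h3.symm
  have transQ : ∀ a ∈ (fun x : G => (x : G ⧸ V)) '' D, ∀ b ∈ (fun x : G => (x : G ⧸ V)) '' D,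
      ∃ g : G ⧸ V, g * a * g⁻¹ = b := by
    rintro _ ⟨a, ha, rfl⟩ _ ⟨b, hb, rfl⟩
    obtain ⟨g, hg⟩ := hD.trans a ha b hb
    exact ⟨(g : G ⧸ V), by simp only; rw [← hg]; rfl⟩
  obtain ⟨e0, he0⟩ := hE.nonempty
  have he0V : ((e0 : G) : G ⧸ V) ≠ 1 := by
    intro h0
    rw [QuotientGroup.eq_one_iff] at h0
    have h3 : (⊤ : Subgroup G) ≤ V := by
      rw [← hE.gen, closure_le]
      intro e he
      obtain ⟨g, rfl⟩ := hE.trans e0 he0 e he
      exact hVn.conj_mem _ h0 g
    apply hE.ne e0 he0
    apply hZ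
    intro g
    exact hc g (h3 trivial) e0 h0
  obtain ⟨_, ⟨d, hd, rfl⟩, ⟨e, he, hde⟩⟩ := StepOne.step_one faith hOq (hQ hD) (hQ hE) clQ transQ
    ⟨e0, he0, rfl⟩ he0V
  simp only at hde
  have hde' : d⁻¹ * e ∈ V := by
    rw [← QuotientGroup.eq]
    exact hde.symm
  refine StepTwo.step_two I tD tE hD.gen hD.trans hZ hd (hD.ne d hd)
    (v0 := Additive.ofMul ⟨d⁻¹ * e, hde'⟩) ?_
  change d * (d⁻¹ * e) ∈ E
  rwa [mul_inv_cancel_left]

omit [Finite G] in
theorem eq_of_meet (hD : Cls D) (hE : Cls E) (h : ∃ d ∈ D, d ∈ E) : E = D := by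
  obtain ⟨d, hd, he⟩ := h
  ext x
  constructor
  · intro hx
    obtain ⟨g, rfl⟩ := hE.trans d he x hx
    exact hD.conj g d hd
  · intro hx
    obtain ⟨g, rfl⟩ := hD.trans d hd x hx
    exact hE.conj g d he

end Cfsg.Agent.H854.Unique
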