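import Cfsg.Agent.H854.TM

/-!
# Affine planes of 3-transpositions and their action in characteristic two
-/

set_option autoImplicit false

namespace Cfsg.Agent.H854.TM

section group

variable {G : Type*} [Group G]

theorem cube_swap {a b : G} (h : (a * b) * (a * b) * (a * b) = 1) :
    (b * a) * (b * a) * (b * a) = 1 := by
  have h1 : a * ((b * a) * (b * a) * (b * a)) = a * 1 := by
    calc a * ((b * a) * (b * a) * (b * a)) = ((a * b) * (a * b) * (a * b)) * a := by
          simp only [mul_assoc]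
      _ = a * 1 := by rw [h, one_mul, mul_one]
  exact mul_left_cancel h1

theorem cube_inv {x : G} (h : x * x * x = 1) : x⁻¹ * x⁻¹ * x⁻¹ = 1 := by
  rw [← mul_inv_rev, ← mul_inv_rev, ← mul_assoc, h, inv_one]

theorem cube_conj {x g : G} (h : x * x * x = 1) :
    (g⁻¹ * x * g) * (g⁻¹ * x * g) * (g⁻¹ * x * g) = 1 := by
  calc (g⁻¹ * x * g) * (g⁻¹ * x * g) * (g⁻¹ * x * g) = g⁻¹ * (x * x * x) * g := by group
    _ = 1 := by rw [h]; group

/-- in a group with `s³ = t³ = (st)³ = (s⁻¹t)³ = 1`, `s` commutes with its conjugate by `t` -/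
theorem commute_conj {s t : G} (ht : t * t * t = 1)
    (h1 : (s * t) * (s * t) * (s * t) = 1) (h2 : (s⁻¹ * t) * (s⁻¹ * t) * (s⁻¹ * t) = 1) :
    Commute s (t⁻¹ * s * t) := by
  have e1 : s * t * s = t⁻¹ * s⁻¹ * t⁻¹ := by
    have : (s * t * s) * (t * s * t) = 1 := by
      rw [← h1]; simp only [mul_assoc]
    rw [eq_inv_of_mul_eq_one_left this]; group
  have e2 : t⁻¹ * s * t⁻¹ = s⁻¹ * t * s⁻¹ := by
    have : (s⁻¹ * t * s⁻¹) * (t * s⁻¹ * t) = 1 := by
      rw [← h2]; simp only [mul_assoc]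
    rw [eq_inv_of_mul_eq_one_left this]; group
  have e3 : t * t = t⁻¹ := (inv_eq_mul_self ht).symm
  have a1 : s * (t⁻¹ * s * t) = t * s⁻¹ * t⁻¹ := by
    calc s * (t⁻¹ * s * t) = s * (t⁻¹ * s * t⁻¹) * (t * t) := by group
      _ = s * (s⁻¹ * t * s⁻¹) * t⁻¹ := by rw [e2, e3]
      _ = t * s⁻¹ * t⁻¹ := by group
  have a2 : (t⁻¹ * s * t) * s = t * s⁻¹ * t⁻¹ := by
    calc (t⁻¹ * s * t) * s = t⁻¹ * (s * t * s) := by group
      _ = t⁻¹ * (t⁻¹ * s⁻¹ * t⁻¹) := by rw [e1]
      _ = (t * t)⁻¹ * s⁻¹ * t⁻¹ := by group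
      _ = t * s⁻¹ * t⁻¹ := by rw [e3, inv_inv]
  exact a1.trans a2.symm

theorem commute_conj' {s t : G} (ht : t * t * t = 1)
    (h1 : (s * t) * (s * t) * (s * t) = 1) (h2 : (s⁻¹ * t) * (s⁻¹ * t) * (s⁻¹ * t) = 1) :
    Commute s (t * s * t⁻¹) := by
  have := commute_conj (s := s) (t := t⁻¹) (cube_inv ht) ?_ ?_
  · rwa [inv_inv] at this
  · have h3 := cube_inv h2
    rw [mul_inv_rev, inv_inv] at h3
    exact cube_swap h3
  · have h3 := cube_inv (cube_swap h1)
    rwa [mul_inv_rev] at h3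

/-- the central element -/
theorem zeta_spec {s t : G} (hs : s * s * s = 1) (ht : t * t * t = 1)
    (h1 : (s * t) * (s * t) * (s * t) = 1) (h2 : (s⁻¹ * t) * (s⁻¹ * t) * (s⁻¹ * t) = 1) :
    Commute s (s * t * s⁻¹ * t⁻¹) ∧ Commute t (s * t * s⁻¹ * t⁻¹) ∧
      (s * t * s⁻¹ * t⁻¹) * (s * t * s⁻¹ * t⁻¹) * (s * t * s⁻¹ * t⁻¹) = 1 := by
  have c1 := commute_conj' ht h1 h2
  have h3 : (t⁻¹ * s) * (t⁻¹ * s) * (t⁻¹ * s) = 1 := by
    have := cube_inv h2
    rwa [mul_inv_rev, inv_inv] at this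
  have c2 := commute_conj' hs (cube_swap h1) h3
  have e1 : s * t * s⁻¹ * t⁻¹ = s * (t * s * t⁻¹)⁻¹ := by group
  have e2 : s * t * s⁻¹ * t⁻¹ = (s * t * s⁻¹) * t⁻¹ := by group
  refine ⟨?_, ?_, ?_⟩
  · rw [e1]
    exact (Commute.refl s).mul_right c1.inv_right
  · rw [e2]
    exact c2.mul_right (Commute.refl t).inv_right
  · have c3 : Commute s (t * s * t⁻¹)⁻¹ := c1.inv_right
    have h4 := c3.mul_pow 3
    rw [e1]
    calc s * (t * s * t⁻¹)⁻¹ * (s * (t * s * t⁻¹)⁻¹) * (s * (t * s * t⁻¹)⁻¹)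
        = (s * (t * s * t⁻¹)⁻¹) ^ 3 := by simp only [pow_succ, pow_zero, one_mul]
      _ = s ^ 3 * ((t * s * t⁻¹)⁻¹) ^ 3 := h4
      _ = (s * s * s) * (t * (s * s * s)⁻¹ * t⁻¹) := by
          simp only [pow_succ, pow_zero, one_mul]; group
      _ = 1 := by rw [hs]; group

end group

section nine

variable {G M : Type*} [Group G] [AddCommGroup M] [DistribMulAction G M]

theorem nine_pair (h2 : ∀ m : M, m + m = 0) {t u : G} (hu : u * u * u = 1)
    (hc : t * u = u * t) (m : M) :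
    m = N t m + N u m + N (t * u) m + N (t * (u * u)) m + N t (N u m) := by
  have e4 : (t * (u * u)) * (t * (u * u)) = t * t * u := by
    calc (t * (u * u)) * (t * (u * u)) = t * (u * (u * t)) * u * u := by simp only [mul_assoc]
      _ = t * t * (u * u * u) * u := by
          rw [← hc, ← mul_assoc u t u, ← hc]; simp only [mul_assoc]
      _ = t * t * u := by rw [hu, mul_one]
  have e6 : t * u * (t * u) = t * t * (u * u) := by
    rw [mul_assoc t u, ← mul_assoc u t u, ← hc]; simp only [mul_assoc]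
  have key := nine h2 m (t • m) ((t * t) • m) (u • m) ((u * u) • m) ((t * u) • m)
    ((t * u * (t * u)) • m) ((t * (u * u)) • m) ((t * t * u) • m)
  have e5 : (m + u • m + (u * u) • m) + (t • m + (t * u) • m + (t * (u * u)) • m) +
      ((t * t) • m + (t * t * u) • m + (t * u * (t * u)) • m) = N t (N u m) := by
    rw [e6]
    simp only [N_def, smul_add, smul_smul]
  rw [e5] at key
  simp only [N_def, e4] at key ⊢
  exact key

end nine

variable {G M : Type*} [Group G] [AddCommGroup M] [DistribMulAction G M] {D : Set G}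

/-- An affine plane: three pairwise non-commuting members `f, g, h` of `D` with `h` not commuting
with `f g f`. -/
structure Aff (D : Set G) (f g h : G) : Prop where
  hf : f ∈ D
  hg : g ∈ D
  hh : h ∈ D
  fg : f * g ≠ g * f
  fh : f * h ≠ h * f
  gh : g * h ≠ h * g
  fgfh : (f * g * f) * h ≠ h * (f * g * f)

namespace Aff

/-- the central element of order three or one -/
def zeta (f g h : G) : G := (f * g) * (f * h) * (f * g)⁻¹ * (f * h)⁻¹

variable {f g h : G}

theorem relations (hM : IsTM D M) (A : Aff D f g h) :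
    ((f * g) * (f * g) * (f * g) = 1) ∧ ((f * h) * (f * h) * (f * h) = 1) ∧
    (((f * g) * (f * h)) * ((f * g) * (f * h)) * ((f * g) * (f * h)) = 1) ∧
    (((f * g)⁻¹ * (f * h)) * ((f * g)⁻¹ * (f * h)) * ((f * g)⁻¹ * (f * h)) = 1) := by
  have hff := hM.sq f A.hf
  have hgg := hM.sq g A.hg
  refine ⟨hM.cube A.hf A.hg A.fg, hM.cube A.hf A.hh A.fh, ?_, ?_⟩
  · have hD : f * g * f ∈ D := by
      have := hM.conj f g A.hg
      rwa [inv_of_sq hff] at this
    have := hM.cube hD A.hh A.fgfh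
    have e : (f * g) * (f * h) = (f * g * f) * h := by simp only [mul_assoc]
    rw [e]
    exact this
  · have e : (f * g)⁻¹ * (f * h) = g * h := by
      rw [mul_inv_rev, inv_of_sq hff, inv_of_sq hgg]
      calc g * f * (f * h) = g * (f * f) * h := by simp only [mul_assoc]
        _ = g * h := by rw [hff, mul_one]
    rw [e]
    exact hM.cube A.hg A.hh A.gh

theorem zeta_spec (hM : IsTM D M) (A : Aff D f g h) :
    Commute (f * g) (zeta f g h) ∧ Commute (f * h) (zeta f g h) ∧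
      zeta f g h * zeta f g h * zeta f g h = 1 := by
  obtain ⟨h1, h2, h3, h4⟩ := A.relations hM
  exact TM.zeta_spec h1 h2 h3 h4

/-- `s` and `t` do not commute with `s t ≠ 1`... non-degeneracy: `st ≠ 1` -/
theorem st_ne (hM : IsTM D M) (A : Aff D f g h) : (f * g) * (f * h) ≠ 1 := by
  intro e
  have hD : f * g * f ∈ D := by
    have := hM.conj f g A.hg
    rwa [inv_of_sq (hM.sq f A.hf)] at this
  apply hM.ne_one_of hD A.hh A.fgfh
  rw [← e]; simp only [mul_assoc]

theorem s_ne_t (A : Aff D f g h) : (f * g) ≠ (f * h) := by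
  intro e
  apply A.gh
  rw [mul_left_cancel e]

/-- the action on the fixed space of the central element is commutative -/
theorem comm_on_fixed {s t z : G} (hz : z = s * t * s⁻¹ * t⁻¹) (c1 : Commute s z)
    (c2 : Commute t z) {w : M} (hw : z • w = w) :
    t • s • w = s • t • w ∧ z • (s • w) = s • w ∧ z • (t • w) = t • w := by
  have a1 : z • (s • w) = s • w := by rw [← mul_smul, ← c1.eq, mul_smul, hw]
  have a2 : z • (t • w) = t • w := by rw [← mul_smul, ← c2.eq, mul_smul, hw]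
  have a3 : z • (t • s • w) = t • s • w := by
    rw [← mul_smul, ← c2.eq, mul_smul, a1]
  refine ⟨?_, a1, a2⟩
  have e : s * t = z * (t * s) := by rw [hz]; group
  calc t • s • w = z • (t • s • w) := a3.symm
    _ = (z * (t * s)) • w := by simp only [mul_smul]
    _ = s • t • w := by rw [← e, mul_smul]

/-- T8, abstract form -/
theorem fix_of_zeta (hM : IsTM D M) {s t z : G} (hf : f ∈ D) (hs : s * s * s = 1)
    (ht : t * t * t = 1) (hst : (s * t) * (s * t) * (s * t) = 1)
    (hst' : (s⁻¹ * t) * (s⁻¹ * t) * (s⁻¹ * t) = 1) (fs : f * s * f = s⁻¹)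
    (ft : f * t * f = t⁻¹) (hs1 : s ≠ 1) (ht1 : t ≠ 1) (hst1 : s * t ≠ 1) (hst2 : s ≠ t)
    (hz : z = s * t * s⁻¹ * t⁻¹) (c1 : Commute s z) (c2 : Commute t z) {v : M}
    (hv : z • v = v) : f • v = v := by
  have hff := hM.sq f hf
  have key : ∀ w : M, z • w = w → t • s • w = s • t • w ∧ z • (s • w) = s • w ∧
      z • (t • w) = t • w := fun w hw => comm_on_fixed hz c1 c2 hw
  -- the two elements inverted by f
  have fs' : f * s⁻¹ * f = s := conj_inv_of hff fs
  have ft' : f * t⁻¹ * f = t := conj_inv_of hff ft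
  have tt : t⁻¹ = t * t := inv_eq_mul_self ht
  have T : ∀ w : M, t • t • t • w = w := fun w => by
    rw [← mul_smul, ← mul_smul, ht, one_smul]
  have S : ∀ w : M, s • s • s • w = w := fun w => by
    rw [← mul_smul, ← mul_smul, hs, one_smul]
  have e1 : t⁻¹ * s * t⁻¹ = t⁻¹ * (s * t) * t := by
    calc t⁻¹ * s * t⁻¹ = t⁻¹ * s * (t * t) := by rw [← tt]
      _ = t⁻¹ * (s * t) * t := by simp only [mul_assoc]
  have e2 : t * s * t = t⁻¹⁻¹ * (s * t⁻¹) * t⁻¹ := by
    calc t * s * t = t⁻¹⁻¹ * s * (t⁻¹ * t⁻¹) := by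
          rw [← mul_inv_rev, ← tt, inv_inv]
      _ = t⁻¹⁻¹ * (s * t⁻¹) * t⁻¹ := by simp only [mul_assoc]
  -- x1 = t⁻¹ s t⁻¹
  have x1inv : f * (t⁻¹ * s * t⁻¹) * f = (t⁻¹ * s * t⁻¹)⁻¹ := by
    calc f * (t⁻¹ * s * t⁻¹) * f = (f * t⁻¹ * f) * (f * s * f) * (f * t⁻¹ * f) := by
          calc f * (t⁻¹ * s * t⁻¹) * f = f * t⁻¹ * (1 : G) * s * 1 * t⁻¹ * f := by
                simp only [mul_one, mul_assoc]
            _ = f * t⁻¹ * (f * f) * s * (f * f) * t⁻¹ * f := by rw [hff]
            _ = _ := by simp only [mul_assoc]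
      _ = t * s⁻¹ * t := by rw [fs, ft']
      _ = (t⁻¹ * s * t⁻¹)⁻¹ := by group
  have x1cube : (t⁻¹ * s * t⁻¹) * (t⁻¹ * s * t⁻¹) * (t⁻¹ * s * t⁻¹) = 1 := by
    rw [e1]
    exact cube_conj hst
  have x1ne : t⁻¹ * s * t⁻¹ ≠ 1 := by
    intro e
    apply hst1
    rw [e1] at e
    calc s * t = t * (t⁻¹ * (s * t) * t) * t⁻¹ := by group
      _ = 1 := by rw [e]; group
  have x2inv : f * (t * s * t) * f = (t * s * t)⁻¹ := by
    calc f * (t * s * t) * f = (f * t * f) * (f * s * f) * (f * t * f) := by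
          calc f * (t * s * t) * f = f * t * (1 : G) * s * 1 * t * f := by
                simp only [mul_one, mul_assoc]
            _ = f * t * (f * f) * s * (f * f) * t * f := by rw [hff]
            _ = _ := by simp only [mul_assoc]
      _ = t⁻¹ * s⁻¹ * t⁻¹ := by rw [fs, ft]
      _ = (t * s * t)⁻¹ := by group
  have x2cube : (t * s * t) * (t * s * t) * (t * s * t) = 1 := by
    rw [e2]
    apply cube_conj
    have h3 := cube_inv hst'
    rw [mul_inv_rev, inv_inv] at h3
    exact cube_swap h3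
  have x2ne : t * s * t ≠ 1 := by
    intro e
    rw [e2] at e
    apply hst2
    have : s * t⁻¹ = 1 := by
      calc s * t⁻¹ = t⁻¹ * (t⁻¹⁻¹ * (s * t⁻¹) * t⁻¹) * t := by group
        _ = 1 := by rw [e]; group
    exact mul_inv_eq_one.1 this
  -- action of x1, x2 on the fixed space
  have a1 : ∀ w : M, z • w = w → (t⁻¹ * s * t⁻¹) • w = s • t • w := by
    intro w hw
    have k0 := key w hw
    have k1 := key _ k0.2.2
    have k2 := key _ k1.2.2
    have k3 := key _ k2.2.2
    rw [tt]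
    simp only [mul_smul]
    rw [k2.1, k3.1, T]
  have a2 : ∀ w : M, z • w = w → (t * s * t) • w = s • t • t • w := by
    intro w hw
    have k0 := key w hw
    have k1 := key _ k0.2.2
    simp only [mul_smul]
    rw [k1.1]
  have k0 := key v hv
  have k1 := key _ k0.2.2
  have k2 := key _ k1.2.2
  have kst := key _ k1.2.1
  have b1 : N (t⁻¹ * s * t⁻¹) v = v + s • t • v + s • s • t • t • v := by
    rw [N_def, mul_smul (t⁻¹ * s * t⁻¹) (t⁻¹ * s * t⁻¹), a1 v hv, a1 _ k1.2.1, k1.1]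
  have b2 : N (t * s * t) v = v + s • t • t • v + s • s • t • v := by
    rw [N_def, mul_smul (t * s * t) (t * s * t), a2 v hv, a2 _ k2.2.1, k2.1]
    have k3 := key _ k2.2.2
    rw [k3.1, T]
  have b3 : N s (N t v) = (v + t • v + t • t • v) + (s • v + s • t • v + s • t • t • v) +
      (s • s • v + s • s • t • v + s • s • t • t • v) := by
    simp only [N_def, smul_add, mul_smul]
  have f1 : f • N s v = N s v := hM.fix_of_inv hf hs hs1 fs (smul_N hs v)
  have f2 : f • N t v = N t v := hM.fix_of_inv hf ht ht1 ft (smul_N ht v)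
  have f3 := hM.fix_of_inv hf x1cube x1ne x1inv (smul_N x1cube v)
  have f4 := hM.fix_of_inv hf x2cube x2ne x2inv (smul_N x2cube v)
  have f5 : f • N s (N t v) = N s (N t v) := hM.fix_of_inv hf hs hs1 fs (smul_N hs _)
  have main : v = N s v + N t v + N (t⁻¹ * s * t⁻¹) v + N (t * s * t) v + N s (N t v) := by
    rw [b1, b2, b3]
    simp only [N_def, mul_smul]
    exact nine hM.two v (s • v) (s • s • v) (t • v) (t • t • v) (s • t • v) (s • s • t • t • v)
      (s • t • t • v) (s • s • t • v)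
  rw [main]
  rw [smul_add, smul_add, smul_add, smul_add, f1, f2, f3, f4, f5]

/-- T8 -/
theorem fix_f (hM : IsTM D M) (A : Aff D f g h) {v : M} (hv : zeta f g h • v = v) :
    f • v = v := by
  obtain ⟨hs, ht, hst, hst'⟩ := A.relations hM
  obtain ⟨c1, c2, -⟩ := A.zeta_spec hM
  have hff := hM.sq f A.hf
  exact fix_of_zeta hM A.hf hs ht hst hst' (conj_prod hff (hM.sq g A.hg))
    (conj_prod hff (hM.sq h A.hh)) (hM.ne_one_of A.hf A.hg A.fg) (hM.ne_one_of A.hf A.hh A.fh)
    (A.st_ne hM) A.s_ne_t rfl c1 c2 hv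

/-- the central element commutes with `f` -/
theorem commute_f (hM : IsTM D M) (A : Aff D f g h) : f * zeta f g h * f = zeta f g h := by
  obtain ⟨c1, c2, -⟩ := A.zeta_spec hM
  have hff := hM.sq f A.hf
  have fs : f * (f * g) * f = (f * g)⁻¹ := conj_prod hff (hM.sq g A.hg)
  have ft : f * (f * h) * f = (f * h)⁻¹ := conj_prod hff (hM.sq h A.hh)
  have fs' := conj_inv_of hff fs
  have ft' := conj_inv_of hff ft
  have hz : zeta f g h = (f * g) * (f * h) * (f * g)⁻¹ * (f * h)⁻¹ := rfl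
  have c3 : Commute ((f * h) * (f * g)) (zeta f g h) := c2.mul_left c1
  have e1 : f * zeta f g h * f = (f * g)⁻¹ * (f * h)⁻¹ * (f * g) * (f * h) := by
    have : f * zeta f g h * f = (f * (f * g) * f) * (f * (f * h) * f) * (f * (f * g)⁻¹ * f) *
        (f * (f * h)⁻¹ * f) := by
      calc f * zeta f g h * f = f * ((f * g) * 1 * (f * h) * 1 * (f * g)⁻¹ * 1 * (f * h)⁻¹) * f := by
            rw [hz]; simp only [mul_one]
        _ = f * ((f * g) * (f * f) * (f * h) * (f * f) * (f * g)⁻¹ * (f * f) * (f * h)⁻¹) * f := by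
            rw [hff]
        _ = _ := by simp only [mul_assoc]
    rw [this, fs, ft, fs', ft']
  rw [e1]
  have e2 : (f * g)⁻¹ * (f * h)⁻¹ * (f * g) * (f * h) =
      ((f * h) * (f * g))⁻¹ * (zeta f g h * ((f * h) * (f * g))) := by rw [hz]; group
  rw [e2, ← c3.eq, inv_mul_cancel_left]

/-- T9: `[M, f]` meets the kernel of the norm of `g h` trivially -/
theorem eq_zero_of_N (hM : IsTM D M) (A : Aff D f g h) {m z0 : M} (hz0 : z0 = m + f • m)
    (hN : N (g * h) z0 = 0) : z0 = 0 := by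
  obtain ⟨hs, ht, hst, hst'⟩ := A.relations hM
  obtain ⟨c1, c2, hz3⟩ := A.zeta_spec hM
  have hff := hM.sq f A.hf
  have hgg := hM.sq g A.hg
  have hhh := hM.sq h A.hh
  have fs : f * (f * g) * f = (f * g)⁻¹ := conj_prod hff hgg
  have ft : f * (f * h) * f = (f * h)⁻¹ := conj_prod hff hhh
  have hzf := A.commute_f hM
  have hz : zeta f g h = (f * g) * (f * h) * (f * g)⁻¹ * (f * h)⁻¹ := rfl
  have eτ : g * h = (f * g)⁻¹ * (f * h) := by
    rw [mul_inv_rev, inv_of_sq hff, inv_of_sq hgg]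
    calc g * h = g * (f * f) * h := by rw [hff, mul_one]
      _ = g * f * (f * h) := by simp only [mul_assoc]
  have cτ : Commute ((f * g)⁻¹ * (f * h)) (zeta f g h) := c1.inv_left.mul_left c2
  -- N ζ z0 = 0
  have nz : N (zeta f g h) z0 = 0 := by
    have e : ∀ w : M, N (zeta f g h) (f • w) = f • N (zeta f g h) w := by
      intro w
      have e1 : zeta f g h * f = f * zeta f g h := by
        calc zeta f g h * f = (f * f) * zeta f g h * f := by rw [hff, one_mul]
          _ = f * (f * zeta f g h * f) := by simp only [mul_assoc]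
          _ = f * zeta f g h := by rw [hzf]
      have e2 : zeta f g h * zeta f g h * f = f * (zeta f g h * zeta f g h) := by
        rw [mul_assoc, e1, ← mul_assoc, e1, mul_assoc]
      simp only [N_def, smul_add, smul_smul, e1, e2]
    rw [hz0, N_add, e, A.fix_f hM (smul_N hz3 m), hM.two]
  have e4 : (f * g)⁻¹ * (f * h) * zeta f g h = (f * h) * (f * g)⁻¹ := by
    have c3 : (f * g)⁻¹ * zeta f g h * (f * g) = zeta f g h := by
      rw [mul_assoc, ← c1.eq, inv_mul_cancel_left]
    calc (f * g)⁻¹ * (f * h) * zeta f g h = zeta f g h * ((f * g)⁻¹ * (f * h)) := cτ.eq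
      _ = ((f * g)⁻¹ * zeta f g h * (f * g)) * ((f * g)⁻¹ * (f * h)) := by rw [c3]
      _ = (f * h) * (f * g)⁻¹ := by rw [hz]; group
  have e3 : (f * g)⁻¹ * (f * h) * (zeta f g h * zeta f g h) = (f * g) * (f * h) * (f * g) := by
    have c4 : Commute ((f * h) * (f * g)⁻¹) (zeta f g h) := c2.mul_left c1.inv_left
    rw [← mul_assoc, e4, c4.eq, hz]
    have : (f * g)⁻¹ * (f * g)⁻¹ = f * g := by
      rw [← mul_inv_rev, ← inv_eq_mul_self hs, inv_inv]
    calc f * g * (f * h) * (f * g)⁻¹ * (f * h)⁻¹ * (f * h * (f * g)⁻¹)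
        = f * g * (f * h) * ((f * g)⁻¹ * (f * g)⁻¹) := by group
      _ = _ := by rw [this]
  have nine := nine_pair hM.two (t := (f * g)⁻¹ * (f * h)) hz3 cτ.eq z0
  rw [← eτ, hN, nz, eτ, e4, e3, N_zero, add_zero, zero_add, zero_add] at nine
  -- x3 is inverted by f
  have x3inv : f * ((f * g) * (f * h) * (f * g)) * f = ((f * g) * (f * h) * (f * g))⁻¹ := by
    calc f * ((f * g) * (f * h) * (f * g)) * f
        = (f * (f * g) * f) * (f * (f * h) * f) * (f * (f * g) * f) := by
          calc f * ((f * g) * (f * h) * (f * g)) * f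
              = f * ((f * g) * 1 * (f * h) * 1 * (f * g)) * f := by simp only [mul_one]
            _ = f * ((f * g) * (f * f) * (f * h) * (f * f) * (f * g)) * f := by rw [hff]
            _ = _ := by simp only [mul_assoc]
      _ = (f * g)⁻¹ * (f * h)⁻¹ * (f * g)⁻¹ := by rw [fs, ft]
      _ = _ := by group
  have x3eq : (f * g) * (f * h) * (f * g) = (f * g)⁻¹⁻¹ * ((f * h) * (f * g)⁻¹) * (f * g)⁻¹ := by
    rw [inv_inv]
    have : (f * g)⁻¹ * (f * g)⁻¹ = f * g := by
      rw [← mul_inv_rev, ← inv_eq_mul_self hs, inv_inv]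
    calc (f * g) * (f * h) * (f * g) = (f * g) * (f * h) * ((f * g)⁻¹ * (f * g)⁻¹) := by
          rw [this]
      _ = _ := by simp only [mul_assoc]
  have x4cube : ((f * h) * (f * g)⁻¹) * ((f * h) * (f * g)⁻¹) * ((f * h) * (f * g)⁻¹) = 1 :=
    cube_swap hst'
  have x3cube : ((f * g) * (f * h) * (f * g)) * ((f * g) * (f * h) * (f * g)) *
      ((f * g) * (f * h) * (f * g)) = 1 := by
    rw [x3eq]
    exact cube_conj x4cube
  have x4ne : (f * h) * (f * g)⁻¹ ≠ 1 := fun e => A.s_ne_t (mul_inv_eq_one.1 e).symm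
  have x3ne : (f * g) * (f * h) * (f * g) ≠ 1 := by
    intro e
    rw [x3eq] at e
    apply x4ne
    calc (f * h) * (f * g)⁻¹
        = (f * g)⁻¹ * ((f * g)⁻¹⁻¹ * ((f * h) * (f * g)⁻¹) * (f * g)⁻¹) * (f * g) := by group
      _ = 1 := by rw [e]; group
  have n3 : N ((f * g) * (f * h) * (f * g)) z0 = 0 := by
    rw [hz0]
    exact hM.N_comm A.hf x3cube x3ne x3inv m
  rw [n3, add_zero] at nine
  have hfix : ((f * h) * (f * g)⁻¹) • z0 = z0 := by
    rw [nine]
    exact smul_N x4cube z0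
  -- f' = f g f inverts x4
  have hf' : f * g * f ∈ D := by
    have := hM.conj f g A.hg
    rwa [inv_of_sq hff] at this
  have x4inv : (f * g * f) * ((f * h) * (f * g)⁻¹) * (f * g * f) = ((f * h) * (f * g)⁻¹)⁻¹ := by
    rw [mul_inv_rev (f * h), inv_inv, mul_inv_rev, mul_inv_rev, inv_of_sq hff, inv_of_sq hgg,
      inv_of_sq hhh]
    calc f * g * f * (f * h * (g * f)) * (f * g * f)
        = f * g * (f * f) * h * g * (f * f) * g * f := by simp only [mul_assoc]
      _ = f * g * h * (g * g) * f := by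
          rw [hff]; simp only [mul_one, mul_assoc]
      _ = f * g * (h * f) := by rw [hgg]; simp only [mul_one, mul_assoc]
  have h1 : (f * g * f) • z0 = z0 := hM.fix_of_inv hf' x4cube x4ne x4inv hfix
  refine hM.eq_zero_of_fix A.hf hf' ?_ hz0 h1
  intro e
  apply A.fg
  have e5 : f * (f * g * f) = g * f := by
    calc f * (f * g * f) = (f * f) * g * f := by simp only [mul_assoc]
      _ = g * f := by rw [hff, one_mul]
  have e6 : (f * g * f) * f = f * g := by rw [mul_assoc, hff, mul_one]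
  rw [← e6, ← e5, e]

end Aff

end Cfsg.Agent.H854.TM
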