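import Cfsg.Agent.H854.UStab
import Cfsg.Agent.LieClassical.GUOrder

/-!
# Block embeddings and the stabiliser of an isotropic vector
-/

set_option autoImplicit false
set_option linter.unusedSectionVars false

namespace Cfsg.Agent.H854.UBlock

open Cfsg Cfsg.Agent.LieClassical.HermBasic Cfsg.Agent.ClassicalGeometry.UnitTransv
open Cfsg.Agent.SporadicStructure.UnitTwo Cfsg.Agent.H854.UForm Cfsg.Agent.H854.UGeo
open Cfsg.Agent.H854.UStab
open Cfsg.Agent.LieClassical.GUOrder (ext1 det_ext1 ext1_isom ext1_mulVec_zero ext1_mulVec_succ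
  eq_ext1_of_fix submatrix_isom herm_succ)
open scoped Matrix

variable {F : Type*} [Field F] [Fintype F] {m : ℕ}

/-- the block embedding fixing the first basis vector -/
def up (A : SU m F 2) : SU (m + 1) F 2 :=
  mk (ext1 1 ((A : Matrix.SpecialLinearGroup (Fin m) F) : Matrix (Fin m) (Fin m) F))
    (by rw [det_ext1, one_mul]; exact A.1.2)
    (ext1_isom 1 (one_pow _) _ (fun u v => herm_act A u v))

theorem act_up (A : SU m F 2) (x : Fin (m + 1) → F) :
    act (up A) x = Fin.cons (x 0) (act A (fun i => x i.succ)) := by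
  unfold up
  rw [act_mk]
  funext i
  refine Fin.cases ?_ (fun i => ?_) i
  · rw [ext1_mulVec_zero, Fin.cons_zero, one_mul]
  · rw [ext1_mulVec_succ, Fin.cons_succ]
    rfl

theorem up_mul (A B : SU m F 2) : up (A * B) = up A * up B := by
  apply ext_act
  intro x
  rw [act_mul, act_up, act_up, act_up]
  simp only [Fin.cons_zero, Fin.cons_succ]
  rw [act_mul]

theorem up_one : up (1 : SU m F 2) = 1 := by
  apply ext_act
  intro x
  rw [act_up, act_one, act_one]
  exact Fin.cons_self_tail x

variable (hF : Fintype.card F = 2 ^ 2)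
include hF

theorem herm_cons (a b : F) (x y : Fin m → F) :
    hermForm (m + 1) F 2 (Fin.cons a x) (Fin.cons b y) = a * b ^ 2 + hermForm m F 2 x y := by
  rw [herm_succ]
  simp

theorem up_T {x : Fin m → F} (hx : hermForm m F 2 x x = 0)
    (hx' : hermForm (m + 1) F 2 (Fin.cons 0 x) (Fin.cons 0 x) = 0) :
    up (T hF x hx) = T hF (Fin.cons 0 x) hx' := by
  apply ext_act
  intro y
  rw [act_up, act_T, act_T]
  have h1 : hermForm (m + 1) F 2 y (Fin.cons 0 x) = hermForm m F 2 (fun i => y i.succ) x := by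
    rw [herm_succ]
    simp
  rw [h1]
  funext i
  refine Fin.cases ?_ (fun i => ?_) i
  · simp
  · simp

theorem exists_up (g : SU (m + 1) F 2) (hg : act g (e 0) = e 0) : ∃ A : SU m F 2, g = up A := by
  have h1 := eq_ext1_of_fix hF ((g : Matrix.SpecialLinearGroup (Fin (m + 1)) F) :
    Matrix (Fin (m + 1)) (Fin (m + 1)) F) (fun u v => herm_act g u v) hg
  obtain ⟨A, hA⟩ : ∃ A, A = (((g : Matrix.SpecialLinearGroup (Fin (m + 1)) F) :
    Matrix (Fin (m + 1)) (Fin (m + 1)) F).submatrix Fin.succ Fin.succ) := ⟨_, rfl⟩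
  rw [← hA] at h1
  have hd : A.det = 1 := by
    have h2 : (((g : Matrix.SpecialLinearGroup (Fin (m + 1)) F) :
      Matrix (Fin (m + 1)) (Fin (m + 1)) F)).det = 1 := g.1.2
    rw [h1, det_ext1, one_mul] at h2
    exact h2
  have hi : ∀ u v, hermForm m F 2 (A *ᵥ u) (A *ᵥ v) = hermForm m F 2 u v := by
    apply submatrix_isom hF
    intro u v
    rw [← h1]
    exact herm_act g u v
  refine ⟨mk A hd hi, ?_⟩
  apply Subtype.ext
  apply Subtype.ext
  rw [h1]
  rfl

/-- elements fixing the first two basis vectors -/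
theorem exists_up_up (g : SU (m + 2) F 2) (h0 : act g (e 0) = e 0) (h1 : act g (e 1) = e 1) :
    ∃ A : SU m F 2, g = up (up A) := by
  obtain ⟨A, rfl⟩ := exists_up hF g h0
  obtain ⟨B, rfl⟩ := exists_up hF A (by
    rw [act_up] at h1
    have e1 : (fun i : Fin (m + 1) => (e (1 : Fin (m + 2)) : Fin (m + 2) → F) i.succ) = e 0 := by
      funext i
      rw [e_def, e_def]
      by_cases hi : i = 0
      · subst hi
        rw [Pi.single_eq_same]
        exact Pi.single_eq_same (M := fun _ => F) (1 : Fin (m + 2)) (1 : F)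
      · rw [Pi.single_eq_of_ne hi, Pi.single_eq_of_ne]
        intro h
        apply hi
        apply Fin.succ_injective
        rw [h]; rfl
    rw [e1] at h1
    funext i
    have := congrFun h1 i.succ
    rw [Fin.cons_succ] at this
    rw [this, ← e1])
  exact ⟨B, rfl⟩

/-- the standard isotropic vector -/
theorem u_iso : hermForm (m + 2) F 2 (e 0 + e 1) (e 0 + e 1) = 0 := by
  have h01 : (0 : Fin (m + 2)) ≠ 1 := by
    intro h; have := congrArg Fin.val h; simp at this
  apply iso_add hF
  · rw [herm_e_right hF, e_self]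
  · rw [herm_e_right hF, e_self]
  · rw [herm_e_right hF, e_ne h01.symm]

theorem up_up_T {x : Fin m → F} (hx : hermForm m F 2 x x = 0) :
    up (up (T hF x hx)) ∈ Ku hF (e 0 + e 1 : Fin (m + 2) → F) := by
  have h1 : hermForm (m + 1) F 2 (Fin.cons 0 x) (Fin.cons 0 x) = 0 := by
    rw [herm_cons hF, hx]; simp
  have h2 : hermForm (m + 2) F 2 (Fin.cons 0 (Fin.cons 0 x)) (Fin.cons 0 (Fin.cons 0 x)) = 0 := by
    rw [herm_cons hF, h1]; simp
  rw [up_T hF hx h1, up_T hF h1 h2]
  apply T_mem_Ku
  rw [herm_add_right hF, herm_e_right hF, herm_e_right hF]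
  have : (Fin.cons 0 (Fin.cons 0 x) : Fin (m + 2) → F) 1 = 0 := rfl
  rw [this, Fin.cons_zero, add_zero]

/-- the hyperbolic partner of the standard isotropic vector -/
theorem v_facts {ω : F} (hω : ω ^ 2 + ω + 1 = 0) :
    hermForm (m + 2) F 2 (ω • e 0 + ω ^ 2 • e 1) (ω • e 0 + ω ^ 2 • e 1) = 0 ∧
    hermForm (m + 2) F 2 (ω • e 0 + ω ^ 2 • e 1) (e 0 + e 1) = 1 := by
  have h01 : (0 : Fin (m + 2)) ≠ 1 := by
    intro h; have := congrArg Fin.val h; simp at this
  have h2 := two_eq_zero hF
  have a1 : hermForm (m + 2) F 2 (e 0) (e 0) = 1 := by rw [herm_e_right hF, e_self]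
  have a2 : hermForm (m + 2) F 2 (e 1) (e 1) = 1 := by rw [herm_e_right hF, e_self]
  have a3 : hermForm (m + 2) F 2 (e 0) (e 1) = 0 := by rw [herm_e_right hF, e_ne h01.symm]
  have a4 := herm_eq_zero_swap hF a3
  constructor
  · simp only [herm_add_left, herm_add_right hF, herm_smul_left, herm_smul_right, a1, a2, a3, a4]
    grind
  · simp only [herm_add_left, herm_add_right hF, herm_smul_left, a1, a2, a3, a4]
    grind

/-- all the needed shifts exist -/
theorem shift_all (hm : 2 ≤ m) {ω : F} (hω : ω ^ 2 + ω + 1 = 0) (w : Fin (m + 2) → F)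
    (h1 : hermForm (m + 2) F 2 w (e 0 + e 1) = 0)
    (h2 : hermForm (m + 2) F 2 w (ω • e 0 + ω ^ 2 • e 1) = 0) :
    Shift hF (e 0 + e 1) w := by
  classical
  have h20 := two_eq_zero hF
  have hω0 : ω ≠ 0 := by rintro rfl; simp at hω
  have hω3 := pow_three hF hω0
  have hu := u_iso (m := m) hF
  rw [herm_add_right hF, herm_e_right hF, herm_e_right hF] at h1
  rw [herm_add_right hF, herm_smul_right, herm_smul_right, herm_e_right hF, herm_e_right hF] at h2
  have w0 : w 0 = 0 := by grind
  have w1 : w 1 = 0 := by grind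
  have hsum : w = ∑ j ∈ Finset.univ.filter (fun j : Fin (m + 2) => 2 ≤ j.val), w j • e j := by
    funext i
    rw [Finset.sum_apply]
    by_cases hi : 2 ≤ i.val
    · rw [Finset.sum_eq_single i]
      · rw [Pi.smul_apply, e_self, smul_eq_mul, mul_one]
      · intro j _ hj
        rw [Pi.smul_apply, e_ne hj.symm, smul_zero]
      · intro h
        exfalso
        apply h
        rw [Finset.mem_filter]
        exact ⟨Finset.mem_univ _, hi⟩
    · rw [Finset.sum_eq_zero]
      · have : i = 0 ∨ i = 1 := by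
          rcases Nat.lt_or_ge i.val 1 with h | h
          · left; apply Fin.ext
            have : ((0 : Fin (m + 2)) : ℕ) = 0 := rfl
            omega
          · right; apply Fin.ext
            have : ((1 : Fin (m + 2)) : ℕ) = 1 := by simp
            omega
        rcases this with rfl | rfl
        · exact w0
        · exact w1
      · intro j hj
        rw [Finset.mem_filter] at hj
        rw [Pi.smul_apply, e_ne, smul_zero]
        rintro rfl
        exact hi hj.2
  rw [hsum]
  apply shift_sum hF hu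
  intro j hj
  rw [Finset.mem_filter] at hj
  have hj2 := hj.2
  obtain ⟨i, hi2, hij⟩ : ∃ i : Fin (m + 2), 2 ≤ i.val ∧ i ≠ j := by
    by_cases h : j.val = 2
    · exact ⟨⟨3, by omega⟩, by simp, fun h' => by have := congrArg Fin.val h'; simp at this; omega⟩
    · exact ⟨⟨2, by omega⟩, by simp, fun h' => by have := congrArg Fin.val h'; simp at this; omega⟩
  have hz : ∀ k : Fin (m + 2), 2 ≤ k.val → hermForm (m + 2) F 2 (e k) (e 0 + e 1) = 0 := by
    intro k hk
    have k0 : (0 : Fin (m + 2)) ≠ k := by rintro rfl; simp at hk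
    have k1 : (1 : Fin (m + 2)) ≠ k := by
      rintro rfl
      have : ((1 : Fin (m + 2)) : ℕ) = 1 := by simp
      omega
    rw [herm_add_right hF, herm_e_right hF, herm_e_right hF, e_ne k0, e_ne k1, add_zero]
  have hj0 := hz j hj2
  have hi0 := hz i hi2
  have ajj : hermForm (m + 2) F 2 (e j) (e j) = 1 := by rw [herm_e_right hF, e_self]
  have aii : hermForm (m + 2) F 2 (e i) (e i) = 1 := by rw [herm_e_right hF, e_self]
  have aji : hermForm (m + 2) F 2 (e j) (e i) = 0 := by rw [herm_e_right hF, e_ne hij]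
  by_cases hc : w j = 0
  · rw [hc, zero_smul]; exact shift_zero hF
  · obtain ⟨c, hcd⟩ : ∃ c, c = w j := ⟨_, rfl⟩
    rw [← hcd] at hc ⊢
    have e1 : c • (e j : Fin (m + 2) → F) =
        (ω ^ 2 * c) • (e j + e i) + (ω * c) • (e j + ω • e i) := by
      funext k
      simp only [Pi.add_apply, Pi.smul_apply, smul_eq_mul]
      grind
    rw [e1]
    have b1 := iso_add hF ajj aii aji
    have b2 := iso_add hF ajj (norm_smul hF hω3 aii) (by rw [herm_smul_right, aji, mul_zero])
    apply shift_add hF hu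
    · have c1 : hermForm (m + 2) F 2 ((ω ^ 2 * c) • (e j + e i)) (e 0 + e 1) = 0 := by
        rw [herm_smul_left, herm_add_left, hj0, hi0, add_zero, mul_zero]
      exact ⟨c1, shift_iso hF hu (by rw [herm_smul_left, herm_smul_right, b1, mul_zero, mul_zero]) c1⟩
    · have c1 : hermForm (m + 2) F 2 ((ω * c) • (e j + ω • e i)) (e 0 + e 1) = 0 := by
        rw [herm_smul_left, herm_add_left, hj0, herm_smul_left, hi0, mul_zero, add_zero, mul_zero]
      exact ⟨c1, shift_iso hF hu (by rw [herm_smul_left, herm_smul_right, b2, mul_zero, mul_zero]) c1⟩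

/-- reduction of the stabiliser of the standard isotropic vector to a block subgroup -/
theorem stab_reduce (hm : 2 ≤ m) (g : SU (m + 2) F 2) (hg : act g (e 0 + e 1) = e 0 + e 1) :
    ∃ q ∈ Ku hF (e 0 + e 1 : Fin (m + 2) → F), ∃ A : SU m F 2, q * g = up (up A) := by
  obtain ⟨ω, hω⟩ := exists_omega hF
  have h20 := two_eq_zero hF
  obtain ⟨v1, v2⟩ := v_facts (m := m) hF hω
  obtain ⟨q, hq, h1, h2⟩ := fix_partner hF (u_iso hF) v1 v2
    (fun w hw1 hw2 => shift_all hF hm hω w hw1 hw2) g hg
  refine ⟨q, hq, exists_up_up hF _ ?_ ?_⟩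
  · have e1 : (e 0 : Fin (m + 2) → F) = (ω • e 0 + ω ^ 2 • e 1) + ω ^ 2 • (e 0 + e 1) := by
      funext k
      simp only [Pi.add_apply, Pi.smul_apply, smul_eq_mul]
      grind
    rw [e1, act_add, act_smul, h1, h2]
  · have e1 : (e 1 : Fin (m + 2) → F) = (ω • e 0 + ω ^ 2 • e 1) + ω • (e 0 + e 1) := by
      funext k
      simp only [Pi.add_apply, Pi.smul_apply, smul_eq_mul]
      grind
    rw [e1, act_add, act_smul, h1, h2]

/-- in dimension at least six the stabiliser is generated by transvections -/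
theorem stab_le (hm : 4 ≤ m) : stab (e 0 + e 1 : Fin (m + 2) → F) ≤ Ku hF (e 0 + e 1) := by
  intro g hg
  obtain ⟨q, hq, A, hA⟩ := stab_reduce hF (by omega) g hg
  have h1 : ∀ B ∈ R (n := m) hF, up (up B) ∈ Ku hF (e 0 + e 1 : Fin (m + 2) → F) := by
    intro B hB
    unfold R at hB
    induction hB using Subgroup.closure_induction with
    | mem x hx =>
      obtain ⟨v, hv, _, rfl⟩ := hx
      exact up_up_T hF hv
    | one => rw [up_one, up_one]; exact one_mem _
    | mul x y _ _ ihx ihy => rw [up_mul, up_mul]; exact mul_mem ihx ihy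
    | inv x _ ih =>
      have h3 : up (up x⁻¹) = (up (up x))⁻¹ := by
        apply eq_inv_of_mul_eq_one_left
        rw [← up_mul, ← up_mul, inv_mul_cancel, up_one, up_one]
      rw [h3]
      exact inv_mem ih
  have h2 : q * g ∈ Ku hF (e 0 + e 1 : Fin (m + 2) → F) := by
    rw [hA]
    apply h1
    rw [R_eq_top hF hm]
    exact Subgroup.mem_top _
  have h3 := mul_mem (inv_mem hq) h2
  rwa [inv_mul_cancel_left] at h3

end Cfsg.Agent.H854.UBlock
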