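import Cfsg.Agent.H854.StepOne

/-!
# Two classes of 3-transpositions which agree modulo a normal elementary abelian 2-subgroup
-/

set_option autoImplicit false

namespace Cfsg.Agent.H854.StepTwo

open Subgroup TM StepOne

/-- The situation: `ι` embeds `M` as a normal elementary abelian subgroup of `G` containing
`O₂(G)`, with `G` acting by conjugation. -/
structure Emb (G M : Type*) [Group G] [AddCommGroup M] [DistribMulAction G M] where
  ι : M → G
  zero : ι 0 = 1
  add : ∀ m n, ι (m + n) = ι m * ι n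
  inj : Function.Injective ι
  smul : ∀ (g : G) (m : M), ι (g • m) = g * ι m * g⁻¹
  range : ∀ x ∈ Cfsg.pCore 2 G, ∃ m, ι m = x
  triv : ∀ (n m : M), ι n • m = m

variable {G M : Type*} [Group G] [AddCommGroup M] [DistribMulAction G M] {D E : Set G}
  (I : Emb G M)

theorem Emb.eq_zero {m : M} (h : I.ι m = 1) : m = 0 := I.inj (h.trans I.zero.symm)

theorem Emb.neg (m : M) : (I.ι m)⁻¹ = I.ι (-m) := by
  rw [inv_eq_iff_mul_eq_one, ← I.add, add_neg_cancel, I.zero]

theorem Emb.mul_ι (g : G) (m : M) : g * I.ι m = I.ι (g • m) * g := by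
  rw [I.smul, inv_mul_cancel_right]

/-- S1 -/
theorem fix_of_mem (hD : IsTM D M) (hE : IsTM E M) {d : G} (hd : d ∈ D) {v : M}
    (hv : d * I.ι v ∈ E) : d • v = v := by
  have h1 := hE.sq _ hv
  have h2 : I.ι (d • v + v) = 1 := by
    rw [I.add, I.smul, inv_of_sq (hD.sq d hd)]
    rw [← h1]; simp only [mul_assoc]
  exact hD.eq_of_add (I.eq_zero h2)

/-- S3 -/
theorem add_comm_mem (hD : IsTM D M) (hE : IsTM E M) {d : G} (hd : d ∈ D) {v : M}
    (hv : d * I.ι v ∈ E) (u : M) : d * I.ι (v + (u + d • u)) ∈ E := by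
  have h1 := hE.conj (I.ι u) _ hv
  have hdd := hD.sq d hd
  have h2 : I.ι u * (d * I.ι v) * (I.ι u)⁻¹ = d * I.ι (v + (u + d • u)) := by
    have e1 : v + (u + d • u) = d • u + v + -u := by
      rw [hD.neg]; abel
    rw [e1, I.add, I.add, ← I.neg, I.smul, inv_of_sq hdd]
    calc I.ι u * (d * I.ι v) * (I.ι u)⁻¹ = 1 * I.ι u * d * I.ι v * (I.ι u)⁻¹ := by
          simp only [one_mul, mul_assoc]
      _ = (d * d) * I.ι u * d * I.ι v * (I.ι u)⁻¹ := by rw [hdd]
      _ = _ := by simp only [mul_assoc]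
  rwa [h2] at h1

/-- S2 -/
theorem N_eq (hD : IsTM D M) (hE : IsTM E M) {d1 d2 : G} (h1 : d1 ∈ D) (h2 : d2 ∈ D)
    (hn : d1 * d2 ≠ d2 * d1) {v1 v2 : M} (hv1 : d1 * I.ι v1 ∈ E) (hv2 : d2 * I.ι v2 ∈ E) :
    N (d1 * d2) v1 = N (d1 * d2) v2 := by
  have hs1 := hD.sq _ h1
  have hs2 := hD.sq _ h2
  have hcube := hD.cube h1 h2 hn
  have hne := hD.ne_one_of h1 h2 hn
  have inv2 : d2 * (d1 * d2) * d2 = (d1 * d2)⁻¹ := conj_prod' hs1 hs2
  have e12 : (d1 * I.ι v1) * (d2 * I.ι v2) = (d1 * d2) * I.ι (d2 • v1 + v2) := by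
    rw [I.add, I.smul, inv_of_sq hs2]
    calc (d1 * I.ι v1) * (d2 * I.ι v2) = d1 * 1 * I.ι v1 * (d2 * I.ι v2) := by
          simp only [mul_one, mul_assoc]
      _ = d1 * (d2 * d2) * I.ι v1 * (d2 * I.ι v2) := by rw [hs2]
      _ = _ := by simp only [mul_assoc]
  have e21 : (d2 * I.ι v2) * (d1 * I.ι v1) = (d2 * d1) * I.ι (d1 • v2 + v1) := by
    rw [I.add, I.smul, inv_of_sq hs1]
    calc (d2 * I.ι v2) * (d1 * I.ι v1) = d2 * 1 * I.ι v2 * (d1 * I.ι v1) := by
          simp only [mul_one, mul_assoc]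
      _ = d2 * (d1 * d1) * I.ι v2 * (d1 * I.ι v1) := by rw [hs1]
      _ = _ := by simp only [mul_assoc]
  have hnc : (d1 * I.ι v1) * (d2 * I.ι v2) ≠ (d2 * I.ι v2) * (d1 * I.ι v1) := by
    intro h0
    rw [e12, e21] at h0
    apply hne
    -- σ² = ι (…)
    have h3 : (d1 * d2) * (d1 * d2) = I.ι (-((d1 * d2) • (d2 • v1 + v2)) + (d1 * d2) • (d1 • v2 + v1)) := by
      have h4 : d2 * d1 = (d1 * d2)⁻¹ := by
        rw [mul_inv_rev, inv_of_sq hs1, inv_of_sq hs2]
      rw [h4] at h0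
      have h5 : (d1 * d2) * ((d1 * d2) * I.ι (d2 • v1 + v2)) = I.ι (d1 • v2 + v1) := by
        rw [h0, mul_inv_cancel_left]
      have h6 : (d1 * d2) * (d1 * d2) = I.ι (d1 • v2 + v1) * (I.ι (d2 • v1 + v2))⁻¹ := by
        rw [← h5]; group
      rw [h6, I.neg, ← I.add]
      -- compare by the triviality of the action of σ²
      have htr : ∀ m : M, ((d1 * d2) * (d1 * d2)) • m = m := by
        intro m
        rw [h6, I.neg, ← I.add]
        exact I.triv _ _
      have htr' : ∀ m : M, (d1 * d2) • m = m := by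
        intro m
        calc (d1 * d2) • m = (d1 * d2) • (((d1 * d2) * (d1 * d2)) • m) := by rw [htr]
          _ = ((d1 * d2) * (d1 * d2) * (d1 * d2)) • m := by
              rw [smul_smul]; simp only [mul_assoc]
          _ = m := by rw [hcube, one_smul]
      rw [htr', htr', add_comm]
    generalize -((d1 * d2) • (d2 • v1 + v2)) + (d1 * d2) • (d1 • v2 + v1) = n at h3
    calc d1 * d2 = (d1 * d2) * (d1 * d2) * (d1 * d2) * (d1 * d2) := by rw [hcube, one_mul]
      _ = ((d1 * d2) * (d1 * d2)) * ((d1 * d2) * (d1 * d2)) := by simp only [mul_assoc]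
      _ = 1 := by rw [h3, ← I.add, hD.two, I.zero]
  have hc2 := hE.cube hv1 hv2 hnc
  rw [e12] at hc2
  have hNw : N (d1 * d2) (d2 • v1 + v2) = 0 := by
    generalize d2 • v1 + v2 = w at hc2 ⊢
    have h3 : I.ι (N (d1 * d2) w) = 1 := by
      have e3 : ((d1 * d2) * I.ι w) * ((d1 * d2) * I.ι w) * ((d1 * d2) * I.ι w) =
          I.ι ((d1 * d2) • w + ((d1 * d2) * (d1 * d2)) • w + ((d1 * d2) * (d1 * d2) * (d1 * d2)) • w) *
            ((d1 * d2) * (d1 * d2) * (d1 * d2)) := by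
        rw [I.add, I.add, I.smul, I.smul, I.smul]; group
      rw [hc2, hcube, mul_one, one_smul] at e3
      rw [e3, N_def]
      congr 1
      abel
    exact I.eq_zero h3
  rw [N_add, N_conj hs2 hcube inv2, hD.fix_of_inv h2 hcube hne inv2 (smul_N hcube v1)] at hNw
  exact hD.eq_of_add hNw

/-- S4 -/
theorem add_N (hD : IsTM D M) (hE : IsTM E M) {d1 d2 : G} (h1 : d1 ∈ D) (h2 : d2 ∈ D)
    (hn : d1 * d2 ≠ d2 * d1) {v1 : M} (hv1 : d1 * I.ι v1 ∈ E) :
    N (d1 * d2) v1 = v1 + (d2 • v1 + d1 • d2 • v1) := by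
  have hs1 := hD.sq _ h1
  have hs2 := hD.sq _ h2
  have hcube := hD.cube h1 h2 hn
  have hf := fix_of_mem I hD hE h1 hv1
  rw [N_def, ← inv_eq_mul_self hcube, mul_inv_rev, inv_of_sq hs1, inv_of_sq hs2, mul_smul,
    mul_smul, hf]
  abel

theorem add_N' (hD : IsTM D M) (hE : IsTM E M) {d1 d2 : G} (h1 : d1 ∈ D) (h2 : d2 ∈ D)
    (hn : d1 * d2 ≠ d2 * d1) {v2 : M} (hv2 : d2 * I.ι v2 ∈ E) :
    N (d1 * d2) v2 = v2 + (d1 • v2 + d2 • d1 • v2) := by
  have hs1 := hD.sq _ h1
  have hs2 := hD.sq _ h2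
  have hcube := hD.cube h1 h2 hn
  have hf := fix_of_mem I hD hE h2 hv2
  rw [N_def, ← inv_eq_mul_self hcube, mul_inv_rev, inv_of_sq hs1, inv_of_sq hs2, mul_smul,
    mul_smul, hf]
  abel

/-- existence of a common twist along a line -/
theorem exists_common (hD : IsTM D M) (hE : IsTM E M)
    (hX : ∀ d ∈ D, ∃ v : M, d * I.ι v ∈ E) {d1 d2 : G} (h1 : d1 ∈ D) (h2 : d2 ∈ D)
    (hn : d1 * d2 ≠ d2 * d1) : ∃ x : M, d1 * I.ι x ∈ E ∧ d2 * I.ι x ∈ E := by
  obtain ⟨v1, hv1⟩ := hX d1 h1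
  obtain ⟨v2, hv2⟩ := hX d2 h2
  refine ⟨N (d1 * d2) v1, ?_, ?_⟩
  · rw [add_N I hD hE h1 h2 hn hv1]
    exact add_comm_mem I hD hE h1 hv1 _
  · rw [N_eq I hD hE h1 h2 hn hv1 hv2, add_N' I hD hE h1 h2 hn hv2]
    exact add_comm_mem I hD hE h2 hv2 _

/-- S5 -/
theorem diff (hD : IsTM D M) (hE : IsTM E M) (hX : ∀ d ∈ D, ∃ v : M, d * I.ι v ∈ E)
    {d1 d2 : G} (h1 : d1 ∈ D) (h2 : d2 ∈ D) (hn : d1 * d2 ≠ d2 * d1) {v v' : M}
    (hv : d1 * I.ι v ∈ E) (hv' : d1 * I.ι v' ∈ E) : ∃ u : M, v + v' = u + d1 • u := by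
  obtain ⟨v2, hv2⟩ := hX d2 h2
  have a1 := N_eq I hD hE h1 h2 hn hv hv2
  have a2 := N_eq I hD hE h1 h2 hn hv' hv2
  rw [← a2, add_N I hD hE h1 h2 hn hv, add_N I hD hE h1 h2 hn hv'] at a1
  refine ⟨d2 • v + d2 • v', ?_⟩
  have h3 : v + v' = (d2 • v + d1 • d2 • v) + (d2 • v' + d1 • d2 • v') := by
    have h4 : (v + (d2 • v + d1 • d2 • v)) + (v' + (d2 • v' + d1 • d2 • v')) = 0 := by
      rw [a1, hD.two]
    have h5 : (v + v') + ((d2 • v + d1 • d2 • v) + (d2 • v' + d1 • d2 • v')) = 0 := by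
      rw [← h4]; abel
    exact hD.eq_of_add h5
  rw [h3, smul_add]
  abel

/-- S6 -/
theorem uniq_line (hD : IsTM D M) (hE : IsTM E M) {d1 d2 : G} (h1 : d1 ∈ D) (h2 : d2 ∈ D)
    (hn : d1 * d2 ≠ d2 * d1) {x y : M} (hx1 : d1 * I.ι x ∈ E) (hx2 : d2 * I.ι x ∈ E)
    (hy1 : d1 * I.ι y ∈ E) (hy2 : d2 * I.ι y ∈ E) : x = y := by
  have a := N_eq I hD hE h1 h2 hn hx1 hy2
  have fx1 := fix_of_mem I hD hE h1 hx1
  have fx2 := fix_of_mem I hD hE h2 hx2
  have fy1 := fix_of_mem I hD hE h1 hy1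
  have fy2 := fix_of_mem I hD hE h2 hy2
  rwa [N_of_fix hD.two (by rw [mul_smul, fx2, fx1]), N_of_fix hD.two (by rw [mul_smul, fy2, fy1])]
    at a

/-- twists along a line transfer to the third point -/
theorem third (hD : IsTM D M) (hE : IsTM E M) {a b : G} (ha : a ∈ D) {x : M}
    (hxa : a * I.ι x ∈ E) (hxb : b * I.ι x ∈ E) : (a * b * a) * I.ι x ∈ E := by
  have fa := fix_of_mem I hD hE ha hxa
  have haa := hD.sq a ha
  have h1 := hE.conj a _ hxb
  have h2 : a * (b * I.ι x) * a⁻¹ = (a * b * a) * I.ι x := by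
    rw [inv_of_sq haa]
    have h3 : I.ι x * a = a * I.ι x := by
      rw [I.mul_ι, fa]
    calc a * (b * I.ι x) * a = a * b * (I.ι x * a) := by simp only [mul_assoc]
      _ = _ := by rw [h3]; simp only [mul_assoc]
  rwa [h2] at h1

/-- case (i) -/
theorem case_one [Finite G] (hD : IsTM D M) (hE : IsTM E M)
    (hX : ∀ d ∈ D, ∃ v : M, d * I.ι v ∈ E) {d a b : G} (hd : d ∈ D) (ha : a ∈ D) (hb : b ∈ D)
    (hda : d * a ≠ a * d) (hdb : d * b ≠ b * d) (hab : a * b = b * a) {x y : M}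
    (hxd : d * I.ι x ∈ E) (hxa : a * I.ι x ∈ E) (hyd : d * I.ι y ∈ E) (hyb : b * I.ι y ∈ E) :
    x = y := by
  have fxa := fix_of_mem I hD hE ha hxa
  have fyb := fix_of_mem I hD hE hb hyb
  have haa := hD.sq a ha
  have hbb := hD.sq b hb
  have h1 : a * I.ι (b • x) ∈ E := by
    have h2 := hE.conj b _ hxa
    have h3 : b * (a * I.ι x) * b⁻¹ = a * I.ι (b • x) := by
      rw [I.smul, ← mul_assoc, ← hab]; simp only [mul_assoc]
    rwa [h3] at h2
  have hbx : b • x = x := by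
    by_contra hne
    have h0 : x + b • x ≠ 0 := fun h => hne (hD.eq_of_add h).symm
    have h2 := mem_pCore_of_inter hD ha hb h0
      (diff I hD hE hX ha hd (fun h => hda h.symm) hxa h1) ⟨x, rfl⟩
    obtain ⟨n, hn⟩ := I.range _ h2
    have h3 : (a * b) • x = x := by rw [← hn]; exact I.triv n x
    apply hne
    have h4 := congrArg (fun z => a • z) h3
    simp only [smul_smul] at h4
    rwa [← mul_assoc, haa, one_mul, fxa] at h4
  obtain ⟨u, hu⟩ := diff I hD hE hX hd ha hda hxd hyd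
  have h5 : b • (x + y) = x + y := by rw [smul_add, hbx, fyb]
  exact hD.eq_of_add (hD.eq_zero_of_fix hd hb hdb hu h5)

/-- twists along two lines through a point agree -/
theorem twist_eq [Finite G] (hD : IsTM D M) (hE : IsTM E M)
    (hX : ∀ d ∈ D, ∃ v : M, d * I.ι v ∈ E) {d a b : G} (hd : d ∈ D) (ha : a ∈ D) (hb : b ∈ D)
    (hda : d * a ≠ a * d) (hdb : d * b ≠ b * d) {x y : M}
    (hxd : d * I.ι x ∈ E) (hxa : a * I.ι x ∈ E) (hyd : d * I.ι y ∈ E) (hyb : b * I.ι y ∈ E) :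
    x = y := by
  by_cases hab : a * b = b * a
  · exact case_one I hD hE hX hd ha hb hda hdb hab hxd hxa hyd hyb
  have haa := hD.sq a ha
  have hbb := hD.sq b hb
  have hdd := hD.sq d hd
  have hc : a * b * a ∈ D := by
    have := hD.conj a b hb
    rwa [inv_of_sq haa] at this
  have hbr := (hD.braid a ha b hb).resolve_left hab
  obtain ⟨w, hwa, hwb⟩ := exists_common I hD hE hX ha hb hab
  have hwc := third I hD hE ha hwa hwb
  -- a does not commute with c = aba, nor does b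
  have hac : a * (a * b * a) ≠ (a * b * a) * a := by
    intro h0
    apply hab
    have h1 : a * (a * b * a) = b * a := by
      calc a * (a * b * a) = (a * a) * b * a := by simp only [mul_assoc]
        _ = b * a := by rw [haa, one_mul]
    have h2 : (a * b * a) * a = a * b := by rw [mul_assoc, haa, mul_one]
    exact h2.symm.trans (h0.symm.trans h1)
  have hbc : b * (a * b * a) ≠ (a * b * a) * b := by
    rw [hbr]
    intro h0
    apply hab
    have h1 : b * (b * a * b) = a * b := by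
      calc b * (b * a * b) = (b * b) * a * b := by simp only [mul_assoc]
        _ = a * b := by rw [hbb, one_mul]
    have h2 : (b * a * b) * b = b * a := by rw [mul_assoc, hbb, mul_one]
    exact h1.symm.trans (h0.trans h2)
  by_cases hdc : d * (a * b * a) = (a * b * a) * d
  · -- case (ii)
    have h1 := case_one I hD hE hX ha hd hc (fun h => hda h.symm) hac hdc hxa hxd hwa hwc
    have h2 := case_one I hD hE hX hb hd hc (fun h => hdb h.symm) hbc hdc hyb hyd hwb hwc
    rw [h1, h2]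
  · -- case (iii)
    have A : Aff D d a b :=
      { hf := hd
        hg := ha
        hh := hb
        fg := hda
        fh := hdb
        gh := hab
        fgfh := by
          intro h0
          apply hdc
          have hbr2 := (hD.braid d hd a ha).resolve_left hda
          have hbr3 := (hD.braid d hd b hb).resolve_left hdb
          rw [hbr2] at h0
          -- a d a commutes with b, so d commutes with a b a
          calc d * (a * b * a) = (a * a) * d * (a * b * a) := by rw [haa, one_mul]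
            _ = a * ((a * d * a) * b) * a := by simp only [mul_assoc]
            _ = a * (b * (a * d * a)) * a := by rw [h0]
            _ = (a * b * a) * d * (a * a) := by simp only [mul_assoc]
            _ = (a * b * a) * d := by rw [haa, mul_one] }
    obtain ⟨u, hu⟩ := diff I hD hE hX hd ha hda hxd hyd
    obtain ⟨ua, hua⟩ := diff I hD hE hX ha hd (fun h => hda h.symm) hxa hwa
    obtain ⟨ub, hub⟩ := diff I hD hE hX hb hd (fun h => hdb h.symm) hyb hwb
    have hcube := hD.cube ha hb hab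
    have hne := hD.ne_one_of ha hb hab
    have n1 : N (a * b) (x + w) = 0 := by
      rw [hua]
      exact hD.N_comm ha hcube hne (conj_prod haa hbb) ua
    have n2 : N (a * b) (y + w) = 0 := by
      rw [hub]
      exact hD.N_comm hb hcube hne (conj_prod' haa hbb) ub
    have n3 : N (a * b) (x + y) = 0 := by
      have : x + y = (x + w) + (y + w) := by
        have h3 : (x + w) + (y + w) = x + y + (w + w) := by abel
        rw [h3, hD.two, add_zero]
      rw [this, N_add, n1, n2, add_zero]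
    exact hD.eq_of_add (A.eq_zero_of_N hD hu n3)

/-- Step two -/
theorem step_two [Finite G] (hD : IsTM D M) (hE : IsTM E M) (clD : closure D = ⊤)
    (conjD : ∀ a ∈ D, ∀ b ∈ D, ∃ g : G, g * a * g⁻¹ = b)
    (hZ : ∀ x : G, (∀ g : G, g * x = x * g) → x = 1) {d0 : G} (hd0 : d0 ∈ D) (hd01 : d0 ≠ 1)
    {v0 : M} (hv0 : d0 * I.ι v0 ∈ E) : ∃ d ∈ D, d ∈ E := by
  have hX : ∀ d ∈ D, ∃ v : M, d * I.ι v ∈ E := by
    intro d hd
    obtain ⟨g, rfl⟩ := conjD d0 hd0 d hd
    refine ⟨g • v0, ?_⟩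
    have h1 := hE.conj g _ hv0
    have h2 : g * (d0 * I.ι v0) * g⁻¹ = g * d0 * g⁻¹ * I.ι (g • v0) := by
      rw [I.smul]; group
    rwa [h2] at h1
  -- a neighbour of d0
  have hexa : ∃ a ∈ D, d0 * a ≠ a * d0 := by
    by_contra hno
    push Not at hno
    apply hd01
    apply hZ
    exact commute_of_closure clD (fun d hd => (hno d hd).symm)
  obtain ⟨a0, ha0, hda0⟩ := hexa
  obtain ⟨x, hxd, hxa⟩ := exists_common I hD hE hX hd0 ha0 hda0
  -- the set of good d
  let P : G → Prop := fun d => d ∈ D ∧ d * I.ι x ∈ E ∧ ∃ b ∈ D, d * b ≠ b * d ∧ b * I.ι x ∈ E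
  have hstep : ∀ d, P d → ∀ a ∈ D, P (a * d * a⁻¹) := by
    rintro d ⟨hd, hdx, b, hb, hdb, hbx⟩ a ha
    have haa := hD.sq a ha
    by_cases hda : d * a = a * d
    · have : a * d * a⁻¹ = d := by rw [← hda, mul_inv_cancel_right]
      rw [this]
      exact ⟨hd, hdx, b, hb, hdb, hbx⟩
    · obtain ⟨y, hyd, hya⟩ := exists_common I hD hE hX hd ha hda
      have hxy := twist_eq I hD hE hX hd hb ha hdb hda hdx hbx hyd hya
      rw [← hxy] at hya
      have h1 := third I hD hE ha hya hdx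
      rw [inv_of_sq haa]
      refine ⟨?_, h1, a, ha, ?_, hya⟩
      · have := hD.conj a d hd
        rwa [inv_of_sq haa] at this
      · intro h0
        apply hda
        have h2 : (a * d * a) * a = a * d := by rw [mul_assoc, haa, mul_one]
        have h3 : a * (a * d * a) = d * a := by
          calc a * (a * d * a) = (a * a) * d * a := by simp only [mul_assoc]
            _ = d * a := by rw [haa, one_mul]
        rw [← h2, ← h3, h0]
  have hall : ∀ g : G, P (g * d0 * g⁻¹) := by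
    intro g
    have hg : g ∈ closure D := by rw [clD]; trivial
    induction hg using closure_induction_left with
    | one =>
      rw [one_mul, inv_one, mul_one]
      exact ⟨hd0, hxd, a0, ha0, hda0, hxa⟩
    | mul_left a ha y hy ih =>
      have e : a * y * d0 * (a * y)⁻¹ = a * (y * d0 * y⁻¹) * a⁻¹ := by group
      rw [e]
      exact hstep _ ih a ha
    | inv_mul_cancel a ha y hy ih =>
      have e : a⁻¹ * y * d0 * (a⁻¹ * y)⁻¹ = a⁻¹ * (y * d0 * y⁻¹) * a⁻¹⁻¹ := by group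
      rw [e, inv_of_sq (hD.sq a ha)]
      exact hstep _ ih a ha
  have hfix : ∀ d ∈ D, d * I.ι x = I.ι x * d := by
    intro d hd
    obtain ⟨g, rfl⟩ := conjD d0 hd0 d hd
    obtain ⟨h1, h2, -⟩ := hall g
    have h3 := fix_of_mem I hD hE h1 h2
    rw [I.mul_ι, h3]
  have hx1 : I.ι x = 1 := hZ _ (commute_of_closure clD hfix)
  refine ⟨d0, hd0, ?_⟩
  rwa [hx1, mul_one] at hxd

end Cfsg.Agent.H854.StepTwo
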