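import Mathlib
import Cfsg.Prelude.Def_SporadicB
import Cfsg.Prelude.Def_Transfer
import Cfsg.Agent.H854.StepTwo

/-!
# Classes of 3-transpositions and a normal elementary abelian 2-subgroup
-/

set_option autoImplicit false

namespace Cfsg.Agent.H854.ClassBasic

open Subgroup TM

/-- elementary consequences of being a class of 3-transpositions -/
structure Cls {G : Type*} [Group G] (D : Set G) : Prop where
  sq : ∀ d ∈ D, d * d = 1
  ne : ∀ d ∈ D, d ≠ 1
  conj : ∀ g : G, ∀ d ∈ D, g * d * g⁻¹ ∈ D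
  braid : ∀ d ∈ D, ∀ e ∈ D, d * e = e * d ∨ d * e * d = e * d * e
  trans : ∀ d ∈ D, ∀ e ∈ D, ∃ g : G, g * d * g⁻¹ = e
  gen : closure D = ⊤
  nonempty : D.Nonempty

variable {G : Type*} [Group G] {D : Set G}

theorem cls_of (h : Cfsg.IsThreeTranspositionClass D) : Cls D := by
  obtain ⟨⟨h1, h2⟩, ⟨a, ha, hD⟩, h3⟩ := h
  have sq : ∀ d ∈ D, d * d = 1 := by
    intro d hd
    have := pow_orderOf_eq_one d
    rwa [h1 d hd, pow_two] at this
  refine ⟨sq, ?_, ?_, ?_, ?_, h3, ⟨a, ha⟩⟩
  · intro d hd h0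
    have := h1 d hd
    rw [h0, orderOf_one] at this
    omega
  · intro g d hd
    rw [hD] at hd ⊢
    exact (show IsConj a d from hd).trans (isConj_iff.2 ⟨g, rfl⟩)
  · intro d hd e he
    have hdd := sq d hd
    have hee := sq e he
    rcases h2 d hd e he with h | h
    · left
      rw [pow_two] at h
      have h4 : d * e = (d * e)⁻¹ := eq_inv_of_mul_eq_one_left h
      rw [h4, mul_inv_rev, inv_of_sq hdd, inv_of_sq hee]
    · right
      have h5 : d * e * d * (e * d * e) = 1 := by
        rw [← h]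
        simp only [pow_succ, pow_zero, one_mul, mul_assoc]
      have h6 := eq_inv_of_mul_eq_one_left h5
      rw [h6, mul_inv_rev, mul_inv_rev, inv_of_sq hdd, inv_of_sq hee, mul_assoc]
  · intro d hd e he
    rw [hD] at hd he
    exact isConj_iff.1 ((show IsConj a d from hd).symm.trans (show IsConj a e from he))

namespace Cls

variable (h : Cls D)

include h

theorem cube {d e : G} (hd : d ∈ D) (he : e ∈ D) (hn : d * e ≠ e * d) :
    (d * e) * (d * e) * (d * e) = 1 :=
  cube_of_braid (h.sq d hd) (h.sq e he) ((h.braid d hd e he).resolve_left hn)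

theorem ne_one_of {d e : G} (he : e ∈ D) (hn : d * e ≠ e * d) : d * e ≠ 1 := by
  intro h1
  apply hn
  have : d = e := by
    rw [← inv_of_sq (h.sq e he)]
    exact eq_inv_of_mul_eq_one_left h1
  rw [this]

end Cls

/-- an element of order dividing three in a 2-subgroup is trivial -/
theorem eq_one_of_cube {V : Subgroup G} (hV : IsPGroup 2 V) {x : G} (hx : x ∈ V)
    (h3 : x * x * x = 1) : x = 1 := by
  obtain ⟨k, hk⟩ := hV ⟨x, hx⟩
  have hk' : x ^ 2 ^ k = 1 := by
    have := congrArg (fun y : V => (y : G)) hk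
    simpa using this
  have h3' : x ^ 3 = 1 := by simp only [pow_succ, pow_zero, one_mul, h3]
  have h1 : orderOf x ∣ 2 ^ k := orderOf_dvd_of_pow_eq_one hk'
  have h2 : orderOf x ∣ 3 := orderOf_dvd_of_pow_eq_one h3'
  have h4 : Nat.Coprime (2 ^ k) 3 := Nat.Coprime.pow_left k (by norm_num)
  have h5 := Nat.eq_one_of_dvd_coprimes h4 h1 h2
  exact orderOf_eq_one_iff.1 h5

/-- L1: members commuting modulo a normal 2-subgroup commute -/
theorem commute_of_mod (h : Cls D) {V : Subgroup G} (hV : IsPGroup 2 V) {d e : G}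
    (hd : d ∈ D) (he : e ∈ D) (hm : (d * e) * (d * e) ∈ V) : d * e = e * d := by
  by_contra hn
  have h3 := h.cube hd he hn
  have h4 : (d * e) * (d * e) = 1 := by
    apply eq_one_of_cube hV hm
    calc (d * e) * (d * e) * ((d * e) * (d * e)) * ((d * e) * (d * e))
        = ((d * e) * (d * e) * (d * e)) * ((d * e) * (d * e) * (d * e)) := by
          simp only [mul_assoc]
      _ = 1 := by rw [h3, one_mul]
  rw [h4, one_mul] at h3
  exact h.ne_one_of he hn h3

/-- conjugates under `V` are congruent modulo `V` -/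
theorem mul_conj_mem {V : Subgroup G} (hn : V.Normal) {m : G} (hm : m ∈ V) (d : G) :
    m * d * m⁻¹ * d⁻¹ ∈ V := by
  have h1 : m * d * m⁻¹ * d⁻¹ = m * (d * m⁻¹ * d⁻¹) := by simp only [mul_assoc]
  rw [h1]
  exact V.mul_mem hm (hn.conj_mem _ (V.inv_mem hm) d)

/-- L2 (strong form): if `d, e ∈ D` commute then every `V`-conjugate of `d` commutes with `e` -/
theorem commute_conj_of_commute (h : Cls D) {V : Subgroup G} (hn : V.Normal)
    (hV : IsPGroup 2 V) {d e : G} (hd : d ∈ D) (he : e ∈ D) (hc : d * e = e * d) {m : G}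
    (hm : m ∈ V) : (m * d * m⁻¹) * e = e * (m * d * m⁻¹) := by
  have hee := h.sq e he
  have hdd := h.sq d hd
  apply commute_of_mod h hV (h.conj m d hd) he
  have hv : m * d * m⁻¹ * d ∈ V := by
    have := mul_conj_mem hn hm d
    rwa [inv_of_sq hdd] at this
  have e1 : (m * d * m⁻¹ * e) * (m * d * m⁻¹ * e) =
      (m * d * m⁻¹ * d) * ((d * e) * (m * d * m⁻¹ * d) * (d * e)⁻¹) := by
    rw [mul_inv_rev, inv_of_sq hdd, inv_of_sq hee]
    calc (m * d * m⁻¹ * e) * (m * d * m⁻¹ * e)
        = m * d * m⁻¹ * 1 * e * (m * d * m⁻¹) * e := by simp only [mul_one, mul_assoc]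
      _ = m * d * m⁻¹ * (d * d) * e * (m * d * m⁻¹) * (e * (d * d)) := by
          rw [hdd, mul_one, mul_one]
      _ = (m * d * m⁻¹ * d) * ((d * e) * (m * d * m⁻¹) * (e * d) * d) := by
          simp only [mul_assoc]
      _ = (m * d * m⁻¹ * d) * ((d * e) * (m * d * m⁻¹) * (d * e) * d) := by rw [← hc]
      _ = (m * d * m⁻¹ * d) * ((d * e) * (m * d * m⁻¹ * d) * (e * d)) := by
          simp only [mul_assoc]
  rw [e1]
  exact V.mul_mem hv (hn.conj_mem _ hv _)

/-- L3: for non-commuting `d, e ∈ D`, `d` centralises `C_V(de)` -/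
theorem commute_of_commute_mul (h : Cls D) {V : Subgroup G} (hn : V.Normal)
    (hV : IsPGroup 2 V) {d e : G} (hd : d ∈ D) (he : e ∈ D) (hc : d * e ≠ e * d) {m : G}
    (hm : m ∈ V) (hcm : (d * e) * m = m * (d * e)) : d * m = m * d := by
  have hee := h.sq e he
  have hdd := h.sq d hd
  have hσ := h.cube hd he hc
  have hσ1 := h.ne_one_of he hc
  -- y = (m d m⁻¹) d
  have hy : m * d * m⁻¹ * d ∈ V := by
    have := mul_conj_mem hn hm d
    rwa [inv_of_sq hdd] at this
  have hd' := h.conj m d hd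
  have hdd' := h.sq _ hd'
  -- commute
  have c1 : (m * d * m⁻¹) * d = d * (m * d * m⁻¹) :=
    commute_of_mod h hV hd' hd (V.mul_mem hy hy)
  have ysq : (m * d * m⁻¹ * d) * (m * d * m⁻¹ * d) = 1 := by
    calc (m * d * m⁻¹ * d) * (m * d * m⁻¹ * d)
        = (m * d * m⁻¹ * d) * (d * (m * d * m⁻¹)) := by rw [c1]
      _ = (m * d * m⁻¹) * (d * d) * (m * d * m⁻¹) := by simp only [mul_assoc]
      _ = 1 := by rw [hdd, mul_one, hdd']
  have hσinv : (d * e)⁻¹ = e * d := by rw [mul_inv_rev, inv_of_sq hdd, inv_of_sq hee]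
  -- y commutes with σ
  have hcσ : Commute (d * e) m := hcm
  have c2 : Commute (d * e) (d * m⁻¹ * d) := by
    have h1 : Commute (d * (d * e)⁻¹ * d) (d * m⁻¹ * d) := by
      have h2 : Commute (d * e)⁻¹ m⁻¹ := hcσ.inv_inv
      have h3 : ∀ a b : G, Commute a b → Commute (d * a * d) (d * b * d) := by
        intro a b hab
        show (d * a * d) * (d * b * d) = (d * b * d) * (d * a * d)
        calc (d * a * d) * (d * b * d) = d * a * (d * d) * b * d := by simp only [mul_assoc]
          _ = d * (a * b) * d := by rw [hdd]; simp only [mul_one, mul_assoc]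
          _ = d * (b * a) * d := by rw [hab.eq]
          _ = d * b * (d * d) * a * d := by rw [hdd]; simp only [mul_one, mul_assoc]
          _ = _ := by simp only [mul_assoc]
      exact h3 _ _ h2
    have h4 : d * (d * e)⁻¹ * d = d * e := by
      rw [hσinv, mul_assoc, mul_assoc, hdd, mul_one]
    rwa [h4] at h1
  have c3 : Commute (d * e) (m * d * m⁻¹ * d) := by
    have h1 : m * d * m⁻¹ * d = m * (d * m⁻¹ * d) := by simp only [mul_assoc]
    rw [h1]
    exact hcσ.mul_right c2
  -- (m d m⁻¹) e = y σ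
  have e1 : (m * d * m⁻¹) * e = (m * d * m⁻¹ * d) * (d * e) := by
    calc (m * d * m⁻¹) * e = (m * d * m⁻¹) * (d * d) * e := by rw [hdd, mul_one]
      _ = _ := by simp only [mul_assoc]
  generalize hyd : m * d * m⁻¹ * d = y at *
  have hny : (m * d * m⁻¹) * e ≠ e * (m * d * m⁻¹) := by
    intro h0
    have h1 : ((m * d * m⁻¹) * e) * ((m * d * m⁻¹) * e) = 1 := by
      nth_rewrite 2 [h0]
      calc (m * d * m⁻¹) * e * (e * (m * d * m⁻¹)) = (m * d * m⁻¹) * (e * e) * (m * d * m⁻¹) := by
            simp only [mul_assoc]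
        _ = 1 := by rw [hee, mul_one, hdd']
    rw [e1] at h1
    have h2 : y * (d * e) * (y * (d * e)) = (y * y) * ((d * e) * (d * e)) := by
      calc y * (d * e) * (y * (d * e)) = y * ((d * e) * y) * (d * e) := by
            simp only [mul_assoc]
        _ = _ := by rw [c3.eq]; simp only [mul_assoc]
    rw [h2, ysq, one_mul] at h1
    rw [h1, one_mul] at hσ
    exact hσ1 hσ
  have h3 := h.cube hd' he hny
  rw [e1] at h3
  have h4 : y * (d * e) * (y * (d * e)) * (y * (d * e)) =
      (y * y) * y * ((d * e) * (d * e) * (d * e)) := by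
    have hc' : y * (d * e) = (d * e) * y := c3.symm.eq
    calc y * (d * e) * (y * (d * e)) * (y * (d * e))
        = y * ((d * e) * y) * ((d * e) * y) * (d * e) := by simp only [mul_assoc]
      _ = y * (y * (d * e)) * (y * (d * e)) * (d * e) := by rw [hc']
      _ = y * y * ((d * e) * y) * (d * e) * (d * e) := by simp only [mul_assoc]
      _ = y * y * (y * (d * e)) * (d * e) * (d * e) := by rw [hc']
      _ = _ := by simp only [mul_assoc]
  rw [h4, ysq, hσ, one_mul, mul_one] at h3
  rw [h3] at hyd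
  -- m d m⁻¹ d = 1
  have h5 : m * d * m⁻¹ = d := by
    rw [← inv_of_sq hdd]
    rw [inv_of_sq hdd]
    have := eq_inv_of_mul_eq_one_left hyd
    rwa [inv_of_sq hdd] at this
  calc d * m = (m * d * m⁻¹) * m := by rw [h5]
    _ = m * d := by rw [inv_mul_cancel_right]

end Cfsg.Agent.H854.ClassBasic
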