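import Cfsg.Agent.H854.Ctx

/-!
# 3-transposition groups covering `SU_n(2)`: the 2-radical is elementary abelian
-/

set_option autoImplicit false
set_option linter.unusedSectionVars false

namespace Cfsg.Agent.H854.Seven

open Cfsg Cfsg.Agent.LieClassical.HermBasic Cfsg.Agent.ClassicalGeometry.UnitTransv
open Cfsg.Agent.SporadicStructure.UnitTwo Cfsg.Agent.H854.UForm Cfsg.Agent.H854.UGeo
open Cfsg.Agent.H854.UStab Cfsg.Agent.H854.UBlock
open Cfsg.Agent.H854.ClassBasic Cfsg.Agent.H854.Ab Cfsg.Agent.H854.Trans Cfsg.Agent.H854.Ctx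
open Subgroup
open scoped Matrix commutatorElement

/-- the condition `V ≤ K_d W` does not depend on `d` -/
theorem hP_conj {G : Type*} [Group G] {D : Set G} {V : Subgroup G} (h : Cls D) (hn : V.Normal)
    {d : G} (hd : d ∈ D) (hP : V ≤ Kd D d ⊔ W D V) : ∀ e ∈ D, V ≤ Kd D e ⊔ W D V := by
  intro e he v hv
  have hW := W_normal h hn
  obtain ⟨g, rfl⟩ := h.trans d hd e he
  have h1 : Kd D d ⊔ W D V ≤ (Kd D (g * d * g⁻¹) ⊔ W D V).comap (MulAut.conj g).toMonoidHom := by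
    refine sup_le ?_ ?_
    · conv_lhs => unfold Kd
      rw [closure_le]
      rintro x ⟨hx, hc⟩
      change g * x * g⁻¹ ∈ Kd D (g * d * g⁻¹) ⊔ W D V
      apply mem_sup_left
      apply Subgroup.subset_closure
      refine ⟨h.conj g x hx, ?_⟩
      calc g * d * g⁻¹ * (g * x * g⁻¹) = g * (d * x) * g⁻¹ := by group
        _ = g * (x * d) * g⁻¹ := by rw [hc]
        _ = g * x * g⁻¹ * (g * d * g⁻¹) := by group
    · intro x hx
      exact mem_sup_right (hW.conj_mem x hx g)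
  have h2 : g⁻¹ * v * g ∈ V := by
    have := hn.conj_mem v hv g⁻¹
    rwa [inv_inv] at this
  have h3 : g * (g⁻¹ * v * g) * g⁻¹ ∈ Kd D (g * d * g⁻¹) ⊔ W D V := h1 (hP h2)
  have e1 : g * (g⁻¹ * v * g) * g⁻¹ = v := by group
  rwa [e1] at h3

variable {F : Type*} [Field F] [Fintype F] (hF : Fintype.card F = 2 ^ 2)
  {G : Type*} [Group G] [Finite G] {D : Set G} (h : Cls D)
include hF h

/-- passing from one good element to the conclusion -/
theorem elab_of_P {n : ℕ} (hn : 5 ≤ n) (π : G →* SU n F 2) (hπ : Function.Surjective π)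
    (hV : IsPGroup 2 π.ker) (hZ : center G = ⊥) {d : G} (hd : d ∈ D)
    (hP : π.ker ≤ Kd D d ⊔ W D π.ker) :
    (∀ x ∈ π.ker, ∀ y ∈ π.ker, x * y = y * x) ∧ ∀ x ∈ π.ker, x * x = 1 := by
  have hn' : π.ker.Normal := inferInstance
  have hP' := hP_conj h hn' hd hP
  have hC1 : ∀ d ∈ D, ∀ e ∈ D, d * e ≠ e * d → Kd D d ⊔ Kd D e ⊔ π.ker = ⊤ :=
    fun d hd e he hc => C1 hF hn h π hπ hV hd he hc
  have hC2 : ∀ d ∈ D, ∀ e ∈ D, d * e ≠ e * d → ∃ x ∈ D, x * d = d * x ∧ x * e = e * x :=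
    fun d hd e he hc => C2 hF hn h π hπ hV hd he hc
  exact ⟨fun x hx y hy => comm h hn' hV hP' hC1 hC2 hZ hx hy,
    fun x hx => sq h hn' hV hP' hC1 hC2 hZ hx⟩

theorem seven {m : ℕ} (hm : 4 ≤ m) (π : G →* SU (m + 2) F 2) (hπ : Function.Surjective π)
    (hV : IsPGroup 2 π.ker) (hZ : center G = ⊥) :
    (∀ x ∈ π.ker, ∀ y ∈ π.ker, x * y = y * x) ∧ ∀ x ∈ π.ker, x * x = 1 := by
  have hn : 5 ≤ m + 2 := by omega
  have hn' : π.ker.Normal := inferInstance
  have hu := u_iso (m := m) hF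
  have hu0 : (e 0 + e 1 : Fin (m + 2) → F) ≠ 0 := by
    intro h
    have := congrFun h 0
    rw [Pi.add_apply, e_self, e_ne (by intro h; have := congrArg Fin.val h; simp at this)] at this
    simp at this
  obtain ⟨d, hd, hTd⟩ := lift hF hn h π hπ hV hu hu0
  apply elab_of_P hF h hn π hπ hV hZ hd
  obtain ⟨P, hPd⟩ : ∃ P : Subgroup G, P = (stab (e 0 + e 1 : Fin (m + 2) → F)).comap π := ⟨_, rfl⟩
  apply le_sup h hn' hV hd P
  · rw [hPd]
    intro x hx
    rw [mem_comap, show π x = 1 from hx]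
    exact one_mem _
  · rw [hPd, index_comap_of_surjective _ hπ]
    exact odd_index hF hn hu hu0
  · apply comm_le hF hn h π hπ hV hd hu hTd ∅ (by simp) (by simp) P
    intro x hx
    rw [hPd, mem_comap] at hx
    have h1 := stab_le hF hm hx
    rw [← map_Kd hF hn h π hπ hV hd hu hTd] at h1
    obtain ⟨k, hk, hkx⟩ := h1
    have h2 : k⁻¹ * x ∈ π.ker := by
      rw [MonoidHom.mem_ker, map_mul, map_inv, hkx, inv_mul_cancel]
    have h3 : k * (k⁻¹ * x) ∈ closure ((Kd D d : Set G) ∪ (π.ker : Set G) ∪ ∅) :=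
      mul_mem (Subgroup.subset_closure (Or.inl (Or.inl hk)))
        (Subgroup.subset_closure (Or.inl (Or.inr h2)))
    rwa [mul_inv_cancel_left] at h3
  · exact odd_rel hF hn h π hπ hV hd

end Cfsg.Agent.H854.Seven
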