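import Cfsg.Agent.H854.Ab

/-!
# The transfer argument for a central 2-subgroup
-/

set_option autoImplicit false
set_option linter.unusedSectionVars false

namespace Cfsg.Agent.H854.Trans

open Subgroup TM ClassBasic Ab
open scoped commutatorElement

theorem transfer_mem {Γ : Type*} [Group Γ] [Finite Γ] (P K : Subgroup Γ) (hodd : Odd P.index)
    (hK : ⁅P, P⁆ ≤ K) {z : Γ} (hzc : z ∈ center Γ) (hz : z ∈ _root_.commutator Γ) {k : ℕ}
    (h2 : z ^ 2 ^ k = 1) : z ∈ K := by
  have key : ∀ (k : ℕ) (g₀ : Γ), g₀⁻¹ * z ^ k * g₀ ∈ P → g₀⁻¹ * z ^ k * g₀ = z ^ k := by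
    intro k g _
    have h1 := mem_center_iff.1 ((center Γ).pow_mem hzc k) g⁻¹
    rw [h1, inv_mul_cancel_right]
  have h1 := MonoidHom.transfer_eq_pow (Abelianization.of (G := P)) z key
  have h3 : (MonoidHom.transfer (Abelianization.of (G := P))) z = 1 :=
    Abelianization.commutator_subset_ker _ hz
  rw [h3] at h1
  have h4 : z ^ P.index ∈ K := by
    apply hK
    obtain ⟨p, hp, hp1⟩ : ∃ p : P, (p : Γ) = z ^ P.index ∧ Abelianization.of p = 1 :=
      ⟨_, rfl, h1.symm⟩
    rw [← map_subtype_commutator, ← hp]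
    refine ⟨p, ?_, rfl⟩
    rw [← Abelianization.ker_of]
    exact hp1
  -- `z` is a power of `z ^ index`
  have hco : Nat.Coprime (2 ^ k) P.index := Nat.Coprime.pow_left k (Nat.coprime_two_left.2 hodd)
  have h6 := Nat.gcd_eq_gcd_ab (2 ^ k) P.index
  rw [hco.gcd_eq_one] at h6
  have h7 : z = (z ^ P.index) ^ (Nat.gcdB (2 ^ k) P.index) := by
    have h8 : z ^ (1 : ℤ) = z ^ (((2 ^ k : ℕ) : ℤ) * Nat.gcdA (2 ^ k) P.index +
        (P.index : ℤ) * Nat.gcdB (2 ^ k) P.index) := by rw [← h6]; rfl
    rw [zpow_one, zpow_add, zpow_mul, zpow_mul, zpow_natCast, zpow_natCast, h2, one_zpow,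
      one_mul] at h8
    exact h8
  rw [h7]
  exact K.zpow_mem h4 _

variable {G : Type*} [Group G] [Finite G] {D : Set G} {V : Subgroup G}

theorem le_sup (h : Cls D) (hn : V.Normal) (hV : IsPGroup 2 V) {d : G} (hd : d ∈ D)
    (P : Subgroup G) (hVP : V ≤ P) (hodd : Odd P.index) (hK : ⁅P, P⁆ ≤ Kd D d ⊔ W D V)
    (hr : ∃ r ∈ Kd D d, r ∈ V ∧ d * r ∈ _root_.commutator G) : V ≤ Kd D d ⊔ W D V := by
  have hW := W_normal h hn
  have hWV := W_le (D := D) hn
  set q := QuotientGroup.mk' (W D V) with hq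
  have hker : q.ker = W D V := QuotientGroup.ker_mk' _
  have hqs : Function.Surjective q := QuotientGroup.mk'_surjective _
  have main : ∀ y ∈ V, y ∈ _root_.commutator G → y ∈ Kd D d ⊔ W D V := by
    intro y hy hyc
    have h1 : q y ∈ center (G ⧸ W D V) := by
      rw [mem_center_iff]
      intro x
      obtain ⟨g, rfl⟩ := hqs x
      have h2 := comm_mem_W h hn hy g
      rw [← hker, MonoidHom.mem_ker, map_mul, map_mul, map_mul, map_inv, map_inv,
        mul_inv_eq_one] at h2
      exact mul_inv_eq_iff_eq_mul.1 h2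
    have h2 : q y ∈ _root_.commutator (G ⧸ W D V) := by
      have : (_root_.commutator G).map q ≤ _root_.commutator (G ⧸ W D V) := by
        rw [_root_.commutator_def, _root_.commutator_def, map_commutator]
        exact commutator_mono le_top le_top
      exact this ⟨y, hyc, rfl⟩
    obtain ⟨k, hk⟩ := hV ⟨y, hy⟩
    have hk' : y ^ 2 ^ k = 1 := by
      have := congrArg (fun y : V => (y : G)) hk
      simpa using this
    have h3 : q y ∈ (Kd D d ⊔ W D V).map q := by
      apply transfer_mem (P.map q) _ _ _ h1 h2 (k := k)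
      · rw [← map_pow, hk', map_one]
      · rw [index_map_eq P hqs (by rw [hker]; exact hWV.trans hVP)]
        exact hodd
      · rw [← map_commutator]
        exact map_mono hK
    obtain ⟨x, hx, hxy⟩ := h3
    have h4 : x⁻¹ * y ∈ W D V := by
      rw [← hker, MonoidHom.mem_ker, map_mul, map_inv, hxy, inv_mul_cancel]
    have h5 : x * (x⁻¹ * y) ∈ Kd D d ⊔ W D V :=
      (Kd D d ⊔ W D V).mul_mem hx (mem_sup_right h4)
    rwa [mul_inv_cancel_left] at h5
  obtain ⟨r, hrK, hrV, hrc⟩ := hr
  have hab : ∀ g : G, Abelianization.of g = 1 ∨ Abelianization.of g = Abelianization.of d := by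
    have hdd : Abelianization.of d * Abelianization.of d = 1 := by
      rw [← map_mul, h.sq d hd, map_one]
    have h1 : (⊤ : Subgroup G) ≤ (zpowers (Abelianization.of d)).comap Abelianization.of := by
      rw [← h.gen, closure_le]
      intro e he
      obtain ⟨g, rfl⟩ := h.trans d hd e he
      change Abelianization.of (g * d * g⁻¹) ∈ zpowers (Abelianization.of d)
      rw [map_mul, map_mul, map_inv, mul_comm (Abelianization.of g), mul_inv_cancel_right]
      exact mem_zpowers _
    intro g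
    obtain ⟨n, hn⟩ := mem_zpowers_iff.1 (h1 (mem_top g))
    rw [← hn]
    rcases Int.even_or_odd' n with ⟨m, rfl | rfl⟩
    · left
      rw [zpow_mul, zpow_two, hdd, one_zpow]
    · right
      rw [zpow_add, zpow_mul, zpow_two, hdd, one_zpow, one_mul, zpow_one]
  intro x hx
  rcases hab x with h1 | h1
  · apply main x hx
    rw [← Abelianization.ker_of]; exact h1
  · have h2 : r⁻¹ * x ∈ Kd D d ⊔ W D V := by
      apply main _ (V.mul_mem (V.inv_mem hrV) hx)
      rw [← Abelianization.ker_of, MonoidHom.mem_ker] at hrc ⊢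
      rw [map_mul] at hrc
      rw [map_mul, map_inv, h1, eq_inv_of_mul_eq_one_right hrc, inv_inv, ← map_mul, h.sq d hd,
        map_one]
    have h3 := (Kd D d ⊔ W D V).mul_mem (mem_sup_left hrK) h2
    rwa [mul_inv_cancel_left] at h3

end Cfsg.Agent.H854.Trans
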