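import Cfsg.Agent.H854.UBlock
import Cfsg.Agent.H854.Trans

/-!
# 3-transposition groups covering a unitary group over the field with four elements
-/

set_option autoImplicit false
set_option linter.unusedSectionVars false

namespace Cfsg.Agent.H854.Ctx

open Cfsg Cfsg.Agent.LieClassical.HermBasic Cfsg.Agent.ClassicalGeometry.UnitTransv
open Cfsg.Agent.SporadicStructure.UnitTwo Cfsg.Agent.H854.UForm Cfsg.Agent.H854.UGeo
open Cfsg.Agent.H854.UStab Cfsg.Agent.H854.UBlock
open Cfsg.Agent.H854.ClassBasic Cfsg.Agent.H854.Ab Cfsg.Agent.H854.Trans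
open Subgroup
open scoped Matrix commutatorElement

/-- commutators of generators normalising `X` -/
theorem comm_norm {G : Type*} [Group G] {X : Subgroup G} {S : Set G}
    (hS : ∀ s ∈ S, ∀ x, x ∈ X ↔ s * x * s⁻¹ ∈ X)
    (h : ∀ s ∈ S, ∀ t ∈ S, s * t * s⁻¹ * t⁻¹ ∈ X) : ⁅closure S, closure S⁆ ≤ X := by
  have hN : closure S ≤ normalizer (X : Set G) := by
    rw [closure_le]
    intro s hs
    rw [SetLike.mem_coe, mem_normalizer_iff]
    exact fun x => hS s hs x
  have hN' : ∀ s ∈ closure S, ∀ x ∈ X, s * x * s⁻¹ ∈ X := fun s hs x hx =>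
    (mem_normalizer_iff.1 (hN hs) x).1 hx
  -- right closure
  have key : ∀ a ∈ closure S, (∀ t ∈ S, a * t * a⁻¹ * t⁻¹ ∈ X) →
      ∀ b ∈ closure S, a * b * a⁻¹ * b⁻¹ ∈ X := by
    intro a ha hat b hb
    induction hb using closure_induction with
    | mem t ht => exact hat t ht
    | one => simp
    | mul x y hx hy ihx ihy =>
      have e1 : a * (x * y) * a⁻¹ * (x * y)⁻¹ =
          (a * x * a⁻¹ * x⁻¹) * (x * (a * y * a⁻¹ * y⁻¹) * x⁻¹) := by group
      rw [e1]
      exact X.mul_mem ihx (hN' x hx _ ihy)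
    | inv x hx ih =>
      have e1 : a * x⁻¹ * a⁻¹ * x⁻¹⁻¹ = x⁻¹ * (a * x * a⁻¹ * x⁻¹)⁻¹ * x⁻¹⁻¹ := by group
      rw [e1]
      exact hN' _ (inv_mem hx) _ (X.inv_mem ih)
  rw [commutator_le]
  intro a ha b hb
  change a * b * a⁻¹ * b⁻¹ ∈ X
  apply key a ha _ b hb
  intro t ht
  have h1 := key t (subset_closure ht) (fun s hs => h t ht s hs) a ha
  have e1 : a * t * a⁻¹ * t⁻¹ = (t * a * t⁻¹ * a⁻¹)⁻¹ := by group
  rw [e1]
  exact X.inv_mem h1

variable {F : Type*} [Field F] [Fintype F] {n : ℕ} (hF : Fintype.card F = 2 ^ 2) (hn : 5 ≤ n)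
  {G : Type*} [Group G] {D : Set G} (h : Cls D) (π : G →* SU n F 2)
  (hπ : Function.Surjective π) (hV : IsPGroup 2 π.ker)
include hF hn h hπ hV

theorem exists_iso : ∃ v : Fin n → F, hermForm n F 2 v v = 0 ∧ v ≠ 0 := by
  refine ⟨e ⟨0, by omega⟩ + e ⟨1, by omega⟩, ?_, ?_⟩
  · apply iso_add hF
    · rw [herm_e_right hF, e_self]
    · rw [herm_e_right hF, e_self]
    · rw [herm_e_right hF, e_ne (by simp)]
  · intro h
    have := congrFun h ⟨0, by omega⟩
    rw [Pi.add_apply, e_self, e_ne (by simp)] at this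
    simp at this

theorem pi_ne_one {d : G} (hd : d ∈ D) : π d ≠ 1 := by
  intro h1
  have h2 : ∀ e ∈ D, π e = 1 := by
    intro e he
    obtain ⟨g, rfl⟩ := h.trans d hd e he
    rw [map_mul, map_mul, h1, mul_one, map_inv, mul_inv_cancel]
  have h3 : (⊤ : Subgroup G) ≤ π.ker := by
    rw [← h.gen, closure_le]
    exact fun e he => h2 e he
  obtain ⟨v, hv, hv0⟩ := exists_iso hF hn h π hπ hV
  obtain ⟨g, hg⟩ := hπ (T hF v hv)
  exact T_ne_one hF hv hv0 (by rw [← hg]; exact h3 (mem_top g))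

/-- members of `D` map to transvections -/
theorem form {d : G} (hd : d ∈ D) : ∃ (v : Fin n → F) (hv : hermForm n F 2 v v = 0), v ≠ 0 ∧
    π d = T hF v hv := by
  apply involution_T hF hn
  · rw [← map_mul, h.sq d hd, map_one]
  · exact pi_ne_one hF hn h π hπ hV hd
  · intro g
    obtain ⟨x, rfl⟩ := hπ g
    rw [← map_inv, ← map_mul, ← map_mul]
    rcases h.braid d hd _ (h.conj x d hd) with h1 | h1
    · left; rw [← map_mul, h1, map_mul]
    · right; rw [← map_mul, ← map_mul, h1, map_mul, map_mul]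

theorem lift {v : Fin n → F} (hv : hermForm n F 2 v v = 0) (hv0 : v ≠ 0) :
    ∃ d ∈ D, π d = T hF v hv := by
  obtain ⟨d, hd⟩ := h.nonempty
  obtain ⟨w, hw, hw0, hT⟩ := form hF hn h π hπ hV hd
  obtain ⟨g, hg⟩ := iso_trans hF hn hw hw0 hv hv0
  obtain ⟨x, rfl⟩ := hπ g
  refine ⟨x * d * x⁻¹, h.conj x d hd, ?_⟩
  have h1 := conj_T hF (π x) w hw (by rw [herm_act, hw])
  rw [map_mul, map_mul, map_inv, hT, h1]
  exact T_congr hF hg _ _

theorem comm_iff {d e : G} (hd : d ∈ D) (he : e ∈ D) : d * e = e * d ↔ π d * π e = π e * π d := by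
  constructor
  · intro h1
    rw [← map_mul, h1, map_mul]
  · intro h1
    apply commute_of_mod h hV hd he
    rw [MonoidHom.mem_ker, map_mul, map_mul]
    calc π d * π e * (π d * π e) = π d * π e * (π e * π d) := by rw [h1]
      _ = π d * (π e * π e) * π d := by simp only [mul_assoc]
      _ = 1 := by
        rw [← map_mul, h.sq e he, map_one, mul_one, ← map_mul, h.sq d hd, map_one]

theorem comm_iff_herm {d e : G} (hd : d ∈ D) (he : e ∈ D) {u v : Fin n → F}
    (hu : hermForm n F 2 u u = 0) (hv : hermForm n F 2 v v = 0) (hdu : π d = T hF u hu)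
    (hev : π e = T hF v hv) : d * e = e * d ↔ hermForm n F 2 u v = 0 := by
  rw [comm_iff hF hn h π hπ hV hd he, hdu, hev]
  constructor
  · intro h1
    by_contra h2
    exact not_comm_T hF hu hv h2 h1
  · exact comm_T hF hu hv

theorem map_Kd {d : G} (hd : d ∈ D) {u : Fin n → F} (hu : hermForm n F 2 u u = 0)
    (hdu : π d = T hF u hu) : (Kd D d).map π = Ku hF u := by
  apply le_antisymm
  · unfold Kd
    rw [map_le_iff_le_comap, closure_le]
    rintro e ⟨he, hc⟩
    obtain ⟨v, hv, hv0, hT⟩ := form hF hn h π hπ hV he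
    change π e ∈ Ku hF u
    rw [hT]
    apply T_mem_Ku
    apply herm_eq_zero_swap hF
    exact (comm_iff_herm hF hn h π hπ hV hd he hu hv hdu hT).1 hc
  · conv_lhs => unfold Ku
    rw [closure_le]
    rintro _ ⟨x, hx, hx0, hxu, rfl⟩
    obtain ⟨e, he, hT⟩ := lift hF hn h π hπ hV hx hx0
    refine ⟨e, subset_closure ⟨he, ?_⟩, hT⟩
    rw [comm_iff_herm hF hn h π hπ hV hd he hu hx hdu hT]
    exact herm_eq_zero_swap hF hxu

theorem C1 {d e : G} (hd : d ∈ D) (he : e ∈ D) (hc : d * e ≠ e * d) :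
    Kd D d ⊔ Kd D e ⊔ π.ker = ⊤ := by
  obtain ⟨u, hu, hu0, hTu⟩ := form hF hn h π hπ hV hd
  obtain ⟨v, hv, hv0, hTv⟩ := form hF hn h π hπ hV he
  have huv : hermForm n F 2 u v ≠ 0 := fun h1 =>
    hc ((comm_iff_herm hF hn h π hπ hV hd he hu hv hTu hTv).2 h1)
  obtain ⟨s, hs⟩ : ∃ s, s = hermForm n F 2 u v := ⟨_, rfl⟩
  have hs3 : s ^ 3 = 1 := by rw [hs]; exact pow_three hF huv
  have hs0 : s ≠ 0 := by rw [hs]; exact huv
  have h1 : hermForm n F 2 u (s • v) = 1 := by
    rw [herm_smul_right, ← hs]; linear_combination hs3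
  have h2 : hermForm n F 2 (s • v) (s • v) = 0 := by
    rw [herm_smul_left, herm_smul_right, hv, mul_zero, mul_zero]
  have key := gen_two hF hn hu h2 h1 ((Kd D d ⊔ Kd D e).map π)
    (fun x hx hxu => by
      have : T hF x hx ∈ (Kd D d).map π := by
        rw [map_Kd hF hn h π hπ hV hd hu hTu]
        exact T_mem_Ku hF hx hxu
      exact map_mono le_sup_left this)
    (fun x hx hxv => by
      have : T hF x hx ∈ (Kd D e).map π := by
        rw [map_Kd hF hn h π hπ hV he hv hTv]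
        apply T_mem_Ku hF hx
        rw [herm_smul_right] at hxv
        exact (mul_eq_zero.1 hxv).resolve_left (pow_ne_zero _ hs0)
      exact map_mono le_sup_right this)
  rw [eq_top_iff, ← h.gen, closure_le]
  intro x hx
  obtain ⟨w, hw, hw0, hTw⟩ := form hF hn h π hπ hV hx
  have h3 := key w hw
  rw [← hTw] at h3
  obtain ⟨y, hy, hyx⟩ := h3
  have h4 : y⁻¹ * x ∈ π.ker := by
    rw [MonoidHom.mem_ker, map_mul, map_inv, hyx, inv_mul_cancel]
  have h5 := (Kd D d ⊔ Kd D e ⊔ π.ker).mul_mem (mem_sup_left hy) (mem_sup_right h4)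
  rwa [mul_inv_cancel_left] at h5

theorem C2 {d e : G} (hd : d ∈ D) (he : e ∈ D) (hc : d * e ≠ e * d) :
    ∃ x ∈ D, x * d = d * x ∧ x * e = e * x := by
  obtain ⟨u, hu, hu0, hTu⟩ := form hF hn h π hπ hV hd
  obtain ⟨v, hv, hv0, hTv⟩ := form hF hn h π hπ hV he
  have huv : hermForm n F 2 u v ≠ 0 := fun h1 =>
    hc ((comm_iff_herm hF hn h π hπ hV hd he hu hv hTu hTv).2 h1)
  obtain ⟨p, hp0, hp, hpu, hpv⟩ := exists_common hF (by omega) hu hv huv
  obtain ⟨x, hx, hTx⟩ := lift hF hn h π hπ hV hp hp0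
  exact ⟨x, hx, (comm_iff_herm hF hn h π hπ hV hx hd hp hu hTx hTu).2 hpu,
    (comm_iff_herm hF hn h π hπ hV hx he hp hv hTx hTv).2 hpv⟩

theorem mul_mem_commutator {a b : G} (ha : a ∈ D) (hb : b ∈ D) : a * b ∈ _root_.commutator G := by
  obtain ⟨g, rfl⟩ := h.trans a ha b hb
  have h1 : a * (g * a * g⁻¹) = ⁅a, g⁆ := by
    rw [commutatorElement_def, TM.inv_of_sq (h.sq a ha)]
    simp only [mul_assoc]
  rw [h1]
  exact commutator_mem_commutator (mem_top a) (mem_top g)

/-- the odd relation -/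
theorem odd_rel {d : G} (hd : d ∈ D) : ∃ r ∈ Kd D d, r ∈ π.ker ∧ d * r ∈ _root_.commutator G := by
  obtain ⟨ω, hω⟩ := exists_omega hF
  have h20 := two_eq_zero hF
  obtain ⟨u, hu, hu0, hTu⟩ := form hF hn h π hπ hV hd
  -- an isotropic vector orthogonal to `u` and independent of it
  obtain ⟨s, hs, hus, hind⟩ : ∃ s : Fin n → F, hermForm n F 2 s s = 0 ∧ hermForm n F 2 u s = 0 ∧
      ∀ c : F, s + c • u ≠ 0 := by
    obtain ⟨a, b, ha, hb, hab, hu'⟩ := split_iso hF hu hu0
    have hω0 : ω ≠ 0 := by rintro rfl; simp at hω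
    have hω3 := pow_three hF hω0
    have hv : hermForm n F 2 (a + ω • b) (a + ω • b) = 0 :=
      iso_add hF ha (norm_smul hF hω3 hb) (by rw [herm_smul_right, hab, mul_zero])
    have huv : hermForm n F 2 u (a + ω • b) ≠ 0 := by
      rw [hu', herm_add_left, herm_add_right hF, herm_add_right hF, herm_smul_right,
        herm_smul_right, ha, hb, hab, herm_eq_zero_swap hF hab]
      intro h3
      apply hω0
      grind
    obtain ⟨p, hp0, hp, hpu, hpv⟩ := exists_common hF (by omega) hu hv huv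
    refine ⟨p, hp, herm_eq_zero_swap hF hpu, ?_⟩
    intro c hc
    have h3 : hermForm n F 2 (p + c • u) (a + ω • b) = 0 := by rw [hc, herm_zero_left]
    rw [herm_add_left, hpv, zero_add, herm_smul_left] at h3
    rcases mul_eq_zero.1 h3 with h4 | h4
    · rw [h4, zero_smul, add_zero] at hc; exact hp0 hc
    · exact huv h4
  have hsu := herm_eq_zero_swap hF hus
  have iso : ∀ c : F, hermForm n F 2 (s + c • u) (s + c • u) = 0 := by
    intro c
    simp only [herm_add_left, herm_add_right hF, herm_smul_left, herm_smul_right, hs, hu, hus, hsu]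
    simp
  have perp : ∀ c : F, hermForm n F 2 u (s + c • u) = 0 := by
    intro c
    simp only [herm_add_right hF, herm_smul_right, hu, hus]
    simp
  obtain ⟨e0, he0, hT0⟩ := lift hF hn h π hπ hV hs (by simpa using hind 0)
  obtain ⟨e1, he1, hT1⟩ := lift hF hn h π hπ hV (v := s + u) (by simpa using iso 1)
    (by simpa using hind 1)
  obtain ⟨e2, he2, hT2⟩ := lift hF hn h π hπ hV (iso ω) (hind ω)
  obtain ⟨e3, he3, hT3⟩ := lift hF hn h π hπ hV (iso (ω ^ 2)) (hind (ω ^ 2))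
  have c0 := (comm_iff_herm hF hn h π hπ hV hd he0 hu hs hTu hT0).2 hus
  have c1 := (comm_iff_herm hF hn h π hπ hV hd he1 hu _ hTu hT1).2 (by simpa using perp 1)
  have c2 := (comm_iff_herm hF hn h π hπ hV hd he2 hu _ hTu hT2).2 (perp ω)
  have c3 := (comm_iff_herm hF hn h π hπ hV hd he3 hu _ hTu hT3).2 (perp (ω ^ 2))
  have m : ∀ e ∈ D, d * e = e * d → e ∈ Kd D d := fun e he hc => subset_closure ⟨he, hc⟩
  refine ⟨d * e0 * e1 * e2 * e3, ?_, ?_, ?_⟩
  · exact mul_mem (mul_mem (mul_mem (mul_mem (m d hd rfl) (m e0 he0 c0)) (m e1 he1 c1))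
      (m e2 he2 c2)) (m e3 he3 c3)
  · rw [MonoidHom.mem_ker, map_mul, map_mul, map_mul, map_mul, hTu, hT0, hT1, hT2, hT3]
    exact five hF hω hu hs hus _ _ _
  · have e4 : d * (d * e0 * e1 * e2 * e3) = (e0 * e1) * (e2 * e3) := by
      calc d * (d * e0 * e1 * e2 * e3) = (d * d) * ((e0 * e1) * (e2 * e3)) := by
            simp only [mul_assoc]
        _ = (e0 * e1) * (e2 * e3) := by rw [h.sq d hd, one_mul]
    rw [e4]
    exact mul_mem (mul_mem_commutator hF hn h π hπ hV he0 he1)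
      (mul_mem_commutator hF hn h π hπ hV he2 he3)

/-- elements whose image fixes `u` normalise `Kd D d` -/
theorem conj_Kd {d : G} (hd : d ∈ D) {u : Fin n → F} (hu : hermForm n F 2 u u = 0)
    (hdu : π d = T hF u hu) {g : G} (hg : act (π g) u = u) {k : G} (hk : k ∈ Kd D d) :
    g * k * g⁻¹ ∈ Kd D d := by
  have h1 : Kd D d ≤ (Kd D d).comap (MulAut.conj g).toMonoidHom := by
    conv_lhs => unfold Kd
    rw [closure_le]
    rintro x ⟨hx, hc⟩
    change g * x * g⁻¹ ∈ Kd D d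
    apply Subgroup.subset_closure
    refine ⟨h.conj g x hx, ?_⟩
    obtain ⟨v, hv, hv0, hT⟩ := form hF hn h π hπ hV hx
    have h2 := (comm_iff_herm hF hn h π hπ hV hd hx hu hv hdu hT).1 hc
    have h4 : hermForm n F 2 (act (π g) v) (act (π g) v) = 0 := by rw [herm_act, hv]
    have h3 := conj_T hF (π g) v hv h4
    rw [comm_iff_herm hF hn h π hπ hV hd (h.conj g x hx) hu h4 hdu
      (by rw [map_mul, map_mul, map_inv, hT]; exact h3)]
    nth_rewrite 1 [← hg]
    rw [herm_act, h2]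
  exact h1 hk

/-- the commutator condition on the preimage of a stabiliser -/
theorem comm_le {d : G} (hd : d ∈ D) {u : Fin n → F} (hu : hermForm n F 2 u u = 0)
    (hdu : π d = T hF u hu) (S : Set G) (hSu : ∀ s ∈ S, act (π s) u = u)
    (hSc : ∀ s ∈ S, ∀ t ∈ S, s * t * s⁻¹ * t⁻¹ ∈ Kd D d ⊔ W D π.ker) (P : Subgroup G)
    (hP : P ≤ closure ((Kd D d : Set G) ∪ (π.ker : Set G) ∪ S)) :
    ⁅P, P⁆ ≤ Kd D d ⊔ W D π.ker := by
  have hn' : π.ker.Normal := inferInstance
  have hW := W_normal h hn'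
  refine (commutator_mono hP hP).trans ?_
  have hfix : ∀ s ∈ (Kd D d : Set G) ∪ (π.ker : Set G) ∪ S, act (π s) u = u := by
    rintro s ((hs | hs) | hs)
    · have : π s ∈ Ku hF u := by
        rw [← map_Kd hF hn h π hπ hV hd hu hdu]; exact ⟨s, hs, rfl⟩
      exact Ku_le hF this
    · rw [show π s = 1 from hs, act_one]
    · exact hSu s hs
  have hnorm : ∀ g : G, act (π g) u = u → ∀ x ∈ Kd D d ⊔ W D π.ker,
      g * x * g⁻¹ ∈ Kd D d ⊔ W D π.ker := by
    intro g hg x hx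
    have h1 : Kd D d ⊔ W D π.ker ≤ (Kd D d ⊔ W D π.ker).comap (MulAut.conj g).toMonoidHom := by
      refine sup_le ?_ ?_
      · intro k hk
        exact mem_sup_left (conj_Kd hF hn h π hπ hV hd hu hdu hg hk)
      · intro k hk
        exact mem_sup_right (hW.conj_mem k hk g)
    exact h1 hx
  apply comm_norm
  · intro s hs x
    have hs' := hfix s hs
    constructor
    · exact hnorm s hs' x
    · intro hx
      have h1 : act (π s⁻¹) u = u := by
        rw [map_inv]
        nth_rewrite 1 [← hs']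
        exact act_inv_act _ _
      have h2 := hnorm s⁻¹ h1 _ hx
      have e1 : s⁻¹ * (s * x * s⁻¹) * s⁻¹⁻¹ = x := by group
      rwa [e1] at h2
  · -- pairwise commutators
    have hK : ∀ k ∈ Kd D d, ∀ t : G, act (π t) u = u →
        k * t * k⁻¹ * t⁻¹ ∈ Kd D d ⊔ W D π.ker := by
      intro k hk t ht
      have e1 : k * t * k⁻¹ * t⁻¹ = k * (t * k⁻¹ * t⁻¹) := by group
      rw [e1]
      exact mul_mem (mem_sup_left hk)
        (mem_sup_left (conj_Kd hF hn h π hπ hV hd hu hdu ht (inv_mem hk)))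
    have hV' : ∀ v ∈ π.ker, ∀ t : G, v * t * v⁻¹ * t⁻¹ ∈ Kd D d ⊔ W D π.ker := by
      intro v hv t
      have h1 := comm_mem_W h hn' hv t
      have e1 : v * t * v⁻¹ * t⁻¹ = (t * v * t⁻¹ * v⁻¹)⁻¹ := by group
      rw [e1]
      exact mem_sup_right (inv_mem h1)
    have hinv : ∀ s t : G, s * t * s⁻¹ * t⁻¹ ∈ Kd D d ⊔ W D π.ker →
        t * s * t⁻¹ * s⁻¹ ∈ Kd D d ⊔ W D π.ker := by
      intro s t h1
      have e1 : t * s * t⁻¹ * s⁻¹ = (s * t * s⁻¹ * t⁻¹)⁻¹ := by group
      rw [e1]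
      exact inv_mem h1
    intro s hs t ht
    have hs' := hfix s hs
    have ht' := hfix t ht
    rcases hs with (hs | hs) | hs
    · exact hK s hs t ht'
    · exact hV' s hs t
    · rcases ht with (ht | ht) | ht
      · exact hinv _ _ (hK t ht s hs')
      · exact hinv _ _ (hV' t ht s)
      · exact hSc s hs t ht

end Cfsg.Agent.H854.Ctx
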