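import Cfsg.Agent.H854.Zed

/-!
# Modules for `SU_5(2)` in characteristic two on which transvections act well
-/

set_option autoImplicit false
set_option linter.unusedSectionVars false

namespace Cfsg.Agent.H854.UMod

open Cfsg Cfsg.Agent.LieClassical.HermBasic Cfsg.Agent.ClassicalGeometry.UnitTransv
open Cfsg.Agent.SporadicStructure.UnitTwo Cfsg.Agent.H854.UForm Cfsg.Agent.H854.UGeo
open Cfsg.Agent.H854.Zed
open scoped Matrix

variable {F : Type*} [Field F] [Fintype F] (hF : Fintype.card F = 2 ^ 2)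

/-- the conditions on the module -/
structure IsUMod (n : ℕ) (M : Type*) [AddCommGroup M] [DistribMulAction (SU n F 2) M] : Prop where
  two : ∀ m : M, m + m = 0
  perp : ∀ (u v : Fin n → F) (hu : hermForm n F 2 u u = 0) (hv : hermForm n F 2 v v = 0),
    hermForm n F 2 u v = 0 → ∀ m : M, T hF u hu • (m + T hF v hv • m) = m + T hF v hv • m
  fix : ∀ (u v : Fin n → F) (hu : hermForm n F 2 u u = 0) (hv : hermForm n F 2 v v = 0),
    hermForm n F 2 u v ≠ 0 → ∀ m : M, (T hF u hu * T hF v hv) • m = m → T hF u hu • m = m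

section five

variable {ω : F} (hω : ω ^ 2 + ω + 1 = 0)

include hF in
theorem nn (i : Fin 5) : hermForm 5 F 2 (e i) (e i) = 1 := by rw [herm_e_right hF, e_self]

include hF in
theorem nz {i j : Fin 5} (h : i ≠ j) : hermForm 5 F 2 (e i) (e j) = 0 := by
  rw [herm_e_right hF, e_ne h.symm]

include hF hω in
theorem omega_cube : ω ^ 3 = 1 := by
  have := two_eq_zero hF
  grind

include hF in
theorem isoA {i j : Fin 5} (h : i ≠ j) : hermForm 5 F 2 (e i + e j) (e i + e j) = 0 :=
  iso_add hF (nn hF i) (nn hF j) (nz hF h)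

include hF hω in
theorem isoB {i j : Fin 5} (h : i ≠ j) : hermForm 5 F 2 (e i + ω • e j) (e i + ω • e j) = 0 :=
  iso_add hF (nn hF i) (norm_smul hF (omega_cube hF hω) (nn hF j))
    (by rw [herm_smul_right, nz hF h, mul_zero])

/-- the diagonal element with entries `ω` at `i` and `ω²` at `j` -/
def sg {i j : Fin 5} (h : i ≠ j) : SU 5 F 2 := T hF _ (isoA hF h) * T hF _ (isoB hF hω h)

theorem act_sg {i j : Fin 5} (h : i ≠ j) (x : Fin 5 → F) :
    act (sg hF hω h) x = fun t => (if t = i then ω else if t = j then ω ^ 2 else 1) * x t := by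
  have h2 := two_eq_zero hF
  unfold sg
  rw [act_mul]
  simp only [act_T, herm_add_right hF, herm_smul_right, herm_e_right hF]
  funext t
  simp only [Pi.add_apply, Pi.smul_apply, smul_eq_mul]
  by_cases hi : t = i
  · subst hi
    rw [if_pos rfl, e_self, e_ne h, e_ne h.symm, e_self]
    grind
  · rw [if_neg hi]
    by_cases hj : t = j
    · subst hj
      rw [if_pos rfl, e_self, e_ne hi, e_ne (Ne.symm hi), e_self]
      grind
    · rw [if_neg hj, e_ne hi, e_ne hj]
      simp

theorem sg_mul {i j k : Fin 5} (hij : i ≠ j) (hjk : j ≠ k) (hik : i ≠ k) :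
    sg hF hω hij * sg hF hω hjk = sg hF hω hik := by
  have h2 := two_eq_zero hF
  have h3 := omega_cube hF hω
  apply ext_act
  intro x
  rw [act_mul]
  simp only [act_sg]
  funext t
  by_cases hi : t = i
  · subst hi
    simp [hij, hik]
  · by_cases hj : t = j
    · subst hj
      simp [hi, hjk]
      grind
    · by_cases hk : t = k
      · subst hk
        simp [hi, hj]
      · simp [hi, hj, hk]

theorem sg_mul_inv {i j : Fin 5} (hij : i ≠ j) :
    sg hF hω hij * sg hF hω hij.symm = 1 := by
  have h2 := two_eq_zero hF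
  have h3 := omega_cube hF hω
  apply ext_act
  intro x
  rw [act_mul, act_one]
  simp only [act_sg]
  funext t
  by_cases hi : t = i
  · subst hi
    simp [hij]
    grind
  · by_cases hj : t = j
    · subst hj
      simp [hi]
      grind
    · simp [hi, hj]

theorem sg_comm {i j k l : Fin 5} (hij : i ≠ j) (hkl : k ≠ l) :
    sg hF hω hij * sg hF hω hkl = sg hF hω hkl * sg hF hω hij := by
  apply ext_act
  intro x
  rw [act_mul, act_mul]
  simp only [act_sg]
  funext t
  ring

theorem sg_cube {i j : Fin 5} (hij : i ≠ j) :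
    sg hF hω hij * sg hF hω hij * sg hF hω hij = 1 := by
  have h2 := two_eq_zero hF
  have h3 := omega_cube hF hω
  apply ext_act
  intro x
  rw [act_mul, act_mul, act_one]
  simp only [act_sg]
  funext t
  by_cases hi : t = i
  · subst hi
    simp
    grind
  · by_cases hj : t = j
    · subst hj
      simp [hi]
      grind
    · simp [hi, hj]

theorem act_Ze (r : Fin 5) (x : Fin 5 → F) :
    act (Z hF hω (nn hF r)) x = fun t => (if t = r then ω ^ 2 else ω) * x t := by
  have h2 := two_eq_zero hF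
  rw [act_Z, herm_e_right hF]
  funext t
  simp only [Pi.add_apply, Pi.smul_apply, smul_eq_mul]
  by_cases h : t = r
  · subst h
    rw [if_pos rfl, e_self]
    grind
  · rw [if_neg h, e_ne h]
    simp

theorem Z_sg_comm {i j : Fin 5} (hij : i ≠ j) (r : Fin 5) :
    Z hF hω (nn hF r) * sg hF hω hij = sg hF hω hij * Z hF hω (nn hF r) := by
  apply ext_act
  intro x
  rw [act_mul, act_mul]
  simp only [act_sg, act_Ze]
  funext t
  ring

theorem Z_eq {i j k l r : Fin 5} (hij : i ≠ j) (hik : i ≠ k) (hil : i ≠ l) (hir : i ≠ r)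
    (hjk : j ≠ k) (hjl : j ≠ l) (hjr : j ≠ r) (hkl : k ≠ l) (hkr : k ≠ r) (hlr : l ≠ r) :
    Z hF hω (nn hF r) = sg hF hω hir * sg hF hω hjr * sg hF hω hkr * sg hF hω hlr := by
  have h2 := two_eq_zero hF
  have h3 := omega_cube hF hω
  have hall : ∀ t : Fin 5, t = i ∨ t = j ∨ t = k ∨ t = l ∨ t = r := by
    have : ∀ i j k l r : Fin 5, i ≠ j → i ≠ k → i ≠ l → i ≠ r → j ≠ k → j ≠ l → j ≠ r → k ≠ l →
      k ≠ r → l ≠ r → ∀ t : Fin 5, t = i ∨ t = j ∨ t = k ∨ t = l ∨ t = r := by decide
    exact this i j k l r hij hik hil hir hjk hjl hjr hkl hkr hlr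
  apply ext_act
  intro x
  rw [act_mul, act_mul, act_mul]
  simp only [act_sg, act_Ze]
  funext t
  rcases hall t with rfl | rfl | rfl | rfl | rfl
  · simp [hij, hik, hil, hir]
  · simp [hij.symm, hjk, hjl, hjr]
  · simp [hik.symm, hjk.symm, hkl, hkr]
  · simp [hil.symm, hjl.symm, hkl.symm, hlr]
  · simp [hir.symm, hjr.symm, hkr.symm, hlr.symm]
    grind

/-! ### The module argument -/

variable {M : Type*} [AddCommGroup M] [DistribMulAction (SU 5 F 2) M]

theorem d1 (hM : IsUMod hF 5 M) {s : SU 5 F 2} (hs : s * s * s = 1) {m : M}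
    (h : s • (m + s • m) = m + s • m) : m + s • m = 0 := by
  have h1 : s • s • m = m := by
    rw [smul_add] at h
    have h2 : s • m + s • s • m = s • m + m := by rw [h, add_comm]
    exact add_left_cancel h2
  have h2 : s • m = m := by
    calc s • m = s • (s • s • m) := by rw [h1]
      _ = (s * s * s) • m := by rw [mul_smul, mul_smul]
      _ = m := by rw [hs, one_smul]
  rw [h2]
  exact hM.two m

theorem comm_fix {s t : SU 5 F 2} (h : s * t = t * s) {m : M} (hm : s • m = m) :
    s • (m + t • m) = m + t • m := by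
  rw [smul_add, hm, ← mul_smul, h, mul_smul, hm]

theorem perp_fix (hM : IsUMod hF 5 M) {i j : Fin 5} (hij : i ≠ j) {w : Fin 5 → F}
    (hw : hermForm 5 F 2 w w = 0) (wi : hermForm 5 F 2 w (e i) = 0)
    (wj : hermForm 5 F 2 w (e j) = 0) (m : M) :
    T hF w hw • (m + sg hF hω hij • m) = m + sg hF hω hij • m := by
  have e1 : m + sg hF hω hij • m =
      (m + T hF _ (isoB hF hω hij) • m) + (T hF _ (isoB hF hω hij) • m +
        T hF _ (isoA hF hij) • (T hF _ (isoB hF hω hij) • m)) := by
    unfold sg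
    rw [mul_smul]
    have h2 := hM.two (T hF _ (isoB hF hω hij) • m)
    generalize T hF _ (isoA hF hij) • T hF _ (isoB hF hω hij) • m = a at *
    generalize T hF _ (isoB hF hω hij) • m = b at *
    calc m + a = m + a + (b + b) := by rw [h2, add_zero]
      _ = m + b + (b + a) := by abel
  rw [e1, smul_add, hM.perp w _ hw (isoB hF hω hij) (by
    rw [herm_add_right hF, herm_smul_right, wi, wj, mul_zero, add_zero]),
    hM.perp w _ hw (isoA hF hij) (by rw [herm_add_right hF, wi, wj, add_zero])]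

theorem d0 (hM : IsUMod hF 5 M) {i j k l : Fin 5} (hij : i ≠ j) (hkl : k ≠ l) (hki : k ≠ i)
    (hkj : k ≠ j) (hli : l ≠ i) (hlj : l ≠ j) (m : M) :
    sg hF hω hkl • (m + sg hF hω hij • m) = m + sg hF hω hij • m := by
  nth_rewrite 1 [sg]
  rw [mul_smul, perp_fix hF hω hM hij, perp_fix hF hω hM hij]
  · rw [herm_add_left, nz hF hki, nz hF hli, add_zero]
  · rw [herm_add_left, nz hF hkj, nz hF hlj, add_zero]
  · rw [herm_add_left, herm_smul_left, nz hF hki, nz hF hli, mul_zero, add_zero]
  · rw [herm_add_left, herm_smul_left, nz hF hkj, nz hF hlj, mul_zero, add_zero]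

open MulAction in
/-- from `Z(e_r)` to the diagonal elements -/
theorem main1 (hM : IsUMod hF 5 M) {i j k l r : Fin 5} (hij : i ≠ j) (hik : i ≠ k) (hil : i ≠ l)
    (hir : i ≠ r) (hjk : j ≠ k) (hjl : j ≠ l) (hjr : j ≠ r) (hkl : k ≠ l) (hkr : k ≠ r)
    (hlr : l ≠ r) {m : M} (hm : Z hF hω (nn hF r) • m = m) : sg hF hω hij • m = m := by
  have hZ := Z_eq hF hω hij hik hil hir hjk hjl hjr hkl hkr hlr
  obtain ⟨y, hy⟩ : ∃ y, y = m + sg hF hω hij • m := ⟨_, rfl⟩
  obtain ⟨y1, hy1⟩ : ∃ y1, y1 = y + sg hF hω hik • y := ⟨_, rfl⟩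
  have mem : ∀ (s : SU 5 F 2) (w : M), s • w = w → s ∈ stabilizer (SU 5 F 2) w := fun s w h => h
  -- elements fixing y
  have a1 : sg hF hω hkl • y = y := by
    rw [hy]; exact d0 hF hω hM hij hkl hik.symm hjk.symm hil.symm hjl.symm m
  have a2 : sg hF hω hkr • y = y := by
    rw [hy]; exact d0 hF hω hM hij hkr hik.symm hjk.symm hir.symm hjr.symm m
  have a3 : sg hF hω hlr • y = y := by
    rw [hy]; exact d0 hF hω hM hij hlr hil.symm hjl.symm hir.symm hjr.symm m
  have a4 : Z hF hω (nn hF r) • y = y := by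
    rw [hy]; exact comm_fix (Z_sg_comm hF hω hij r) hm
  -- elements fixing y1
  have b1 : sg hF hω hjr • y1 = y1 := by
    rw [hy1]; exact d0 hF hω hM hik hjr hij.symm hjk hir.symm hkr.symm y
  have b2 : sg hF hω hkr • y1 = y1 := by
    rw [hy1]; exact comm_fix (sg_comm hF hω hkr hik) a2
  have b3 : sg hF hω hlr • y1 = y1 := by
    rw [hy1]; exact comm_fix (sg_comm hF hω hlr hik) a3
  have b4 : Z hF hω (nn hF r) • y1 = y1 := by
    rw [hy1]; exact comm_fix (Z_sg_comm hF hω hik r) a4
  have b5 : sg hF hω hir ∈ stabilizer (SU 5 F 2) y1 := by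
    have h1 : sg hF hω hir = Z hF hω (nn hF r) * (sg hF hω hlr)⁻¹ * (sg hF hω hkr)⁻¹ *
        (sg hF hω hjr)⁻¹ := by
      rw [hZ]; group
    rw [h1]
    exact mul_mem (mul_mem (mul_mem (mem _ _ b4) (inv_mem (mem _ _ b3))) (inv_mem (mem _ _ b2)))
      (inv_mem (mem _ _ b1))
  have hsgij : sg hF hω hij = sg hF hω hir * (sg hF hω hjr)⁻¹ := by
    rw [← sg_mul hF hω hij hjr hir]; group
  have b6 : sg hF hω hij • y1 = y1 := by
    have : sg hF hω hij ∈ stabilizer (SU 5 F 2) y1 := by
      rw [hsgij]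
      exact mul_mem b5 (inv_mem (mem _ _ b1))
    exact this
  have b7 : y1 = (m + sg hF hω hik • m) + sg hF hω hij • (m + sg hF hω hik • m) := by
    rw [hy1, hy, smul_add, smul_add, ← mul_smul, ← mul_smul, sg_comm hF hω hik hij]
    abel
  have b8 : y1 = 0 := by
    rw [b7]
    apply d1 hF hM (sg_cube hF hω hij)
    rw [← b7, b6]
  have b9 : sg hF hω hik • y = y := by
    rw [hy1] at b8
    have h1 := hM.two y
    exact (add_left_cancel (b8.trans h1.symm))
  have c1 : sg hF hω hir ∈ stabilizer (SU 5 F 2) y := by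
    rw [← sg_mul hF hω hik hkr hir]
    exact mul_mem (mem _ _ b9) (mem _ _ a2)
  have c2 : sg hF hω hjr ∈ stabilizer (SU 5 F 2) y := by
    have h1 : sg hF hω hjr = (sg hF hω hir)⁻¹ * Z hF hω (nn hF r) * (sg hF hω hlr)⁻¹ *
        (sg hF hω hkr)⁻¹ := by
      rw [hZ]; group
    rw [h1]
    exact mul_mem (mul_mem (mul_mem (inv_mem c1) (mem _ _ a4)) (inv_mem (mem _ _ a3)))
      (inv_mem (mem _ _ a2))
  have c3 : sg hF hω hij • y = y := by
    have : sg hF hω hij ∈ stabilizer (SU 5 F 2) y := by
      rw [hsgij]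
      exact mul_mem c1 (inv_mem c2)
    exact this
  have c4 : y = 0 := by
    rw [hy]
    apply d1 hF hM (sg_cube hF hω hij)
    rw [← hy, c3]
  rw [hy] at c4
  have h1 := hM.two m
  exact add_left_cancel (c4.trans h1.symm)

open MulAction in
theorem main2 (hM : IsUMod hF 5 M) {m : M} (hm : Z hF hω (nn hF 4) • m = m) :
    Z hF hω (nn hF 3) • m = m ∧
      T hF _ (isoA hF (show (4 : Fin 5) ≠ 3 by decide)) • m = m := by
  have h2 := two_eq_zero hF
  have mem : ∀ (s : SU 5 F 2) (w : M), s • w = w → s ∈ stabilizer (SU 5 F 2) w := fun s w h => h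
  have s01 := mem _ _ (main1 hF hω hM (i := 0) (j := 1) (k := 2) (l := 3) (r := 4)
    (by decide) (by decide) (by decide) (by decide) (by decide) (by decide) (by decide)
    (by decide) (by decide) (by decide) hm)
  have s03 := mem _ _ (main1 hF hω hM (i := 0) (j := 3) (k := 1) (l := 2) (r := 4)
    (by decide) (by decide) (by decide) (by decide) (by decide) (by decide) (by decide)
    (by decide) (by decide) (by decide) hm)
  have s13 := mem _ _ (main1 hF hω hM (i := 1) (j := 3) (k := 0) (l := 2) (r := 4)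
    (by decide) (by decide) (by decide) (by decide) (by decide) (by decide) (by decide)
    (by decide) (by decide) (by decide) hm)
  have s23 := mem _ _ (main1 hF hω hM (i := 2) (j := 3) (k := 0) (l := 1) (r := 4)
    (by decide) (by decide) (by decide) (by decide) (by decide) (by decide) (by decide)
    (by decide) (by decide) (by decide) hm)
  have hZ4 := Z_eq hF hω (i := 0) (j := 1) (k := 2) (l := 3) (r := 4)
    (by decide) (by decide) (by decide) (by decide) (by decide) (by decide) (by decide)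
    (by decide) (by decide) (by decide)
  have hZ3 := Z_eq hF hω (i := 0) (j := 1) (k := 2) (l := 4) (r := 3)
    (by decide) (by decide) (by decide) (by decide) (by decide) (by decide) (by decide)
    (by decide) (by decide) (by decide)
  have e04 := sg_mul hF hω (i := 0) (j := 3) (k := 4) (by decide) (by decide) (by decide)
  have e14 := sg_mul hF hω (i := 1) (j := 3) (k := 4) (by decide) (by decide) (by decide)
  have e24 := sg_mul hF hω (i := 2) (j := 3) (k := 4) (by decide) (by decide) (by decide)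
  have s34 : sg hF hω (show (3 : Fin 5) ≠ 4 by decide) ∈ stabilizer (SU 5 F 2) m := by
    -- Z = s03 s34 s13 s34 s23 s34 s34 = (s03 s13 s23) s34
    have c13 := sg_comm hF hω (show (3 : Fin 5) ≠ 4 by decide) (show (1 : Fin 5) ≠ 3 by decide)
    have c23 := sg_comm hF hω (show (3 : Fin 5) ≠ 4 by decide) (show (2 : Fin 5) ≠ 3 by decide)
    have cube := sg_cube hF hω (show (3 : Fin 5) ≠ 4 by decide)
    rw [← e04, ← e14, ← e24] at hZ4
    generalize sg hF hω (show (3 : Fin 5) ≠ 4 by decide) = s at *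
    generalize sg hF hω (show (1 : Fin 5) ≠ 3 by decide) = p at *
    generalize sg hF hω (show (2 : Fin 5) ≠ 3 by decide) = q at *
    generalize sg hF hω (show (0 : Fin 5) ≠ 3 by decide) = o at *
    have h3 : Z hF hω (nn hF 4) = o * p * q * s := by
      rw [hZ4]
      calc o * s * (p * s) * (q * s) * s = o * (s * p) * s * (q * s) * s := by
            simp only [mul_assoc]
        _ = o * (p * s) * s * (q * s) * s := by rw [c13]
        _ = o * p * s * (s * q) * s * s := by simp only [mul_assoc]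
        _ = o * p * s * (q * s) * s * s := by rw [c23]
        _ = o * p * (s * q) * s * s * s := by simp only [mul_assoc]
        _ = o * p * (q * s) * s * s * s := by rw [c23]
        _ = o * p * q * (s * s * s) * s := by simp only [mul_assoc]
        _ = o * p * q * s := by rw [cube, mul_one]
    have h4 : s = (o * p * q)⁻¹ * Z hF hω (nn hF 4) := by rw [h3]; group
    rw [h4]
    exact mul_mem (inv_mem (mul_mem (mul_mem s03 s13) s23)) (mem _ _ hm)
  have s43 : sg hF hω (show (4 : Fin 5) ≠ 3 by decide) ∈ stabilizer (SU 5 F 2) m := by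
    have h3 := sg_mul_inv hF hω (show (3 : Fin 5) ≠ 4 by decide)
    rw [← inv_eq_of_mul_eq_one_right h3]
    exact inv_mem s34
  refine ⟨?_, ?_⟩
  · have : Z hF hω (nn hF 3) ∈ stabilizer (SU 5 F 2) m := by
      rw [hZ3]
      exact mul_mem (mul_mem (mul_mem s03 s13) s23) s43
    exact this
  · apply hM.fix _ _ _ (isoB hF hω (show (4 : Fin 5) ≠ 3 by decide)) _ m s43
    rw [herm_add_left, herm_add_right hF, herm_add_right hF, herm_smul_right, herm_smul_right,
      nn hF, nn hF, nz hF (show (4 : Fin 5) ≠ 3 by decide), nz hF (show (3 : Fin 5) ≠ 4 by decide)]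
    intro h
    have hω0 : ω ≠ 0 := by rintro rfl; simp at hω
    apply hω0
    grind

/-- the general form for orthonormal pairs -/
theorem main3 (hM : IsUMod hF 5 M) {m : M} {u v : Fin 5 → F} (hu : hermForm 5 F 2 u u = 1)
    (hv : hermForm 5 F 2 v v = 1) (huv : hermForm 5 F 2 u v = 0) (hm : Z hF hω hu • m = m) :
    Z hF hω hv • m = m ∧ T hF _ (iso_add hF hu hv huv) • m = m := by
  obtain ⟨g, h1, h2⟩ := pair_trans hF (by norm_num) hu hv huv (nn hF 4) (nn hF 3)
    (nz hF (show (4 : Fin 5) ≠ 3 by decide))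
  have n1 : hermForm 5 F 2 (act g u) (act g u) = 1 := by rw [herm_act, hu]
  have n2 : hermForm 5 F 2 (act g v) (act g v) = 1 := by rw [herm_act, hv]
  have e1 := Z_conj hF hω hu g n1
  have e2 := Z_conj hF hω hv g n2
  have e1' : Z hF hω n1 = Z hF hω (nn hF 4) := by congr 1
  have e2' : Z hF hω n2 = Z hF hω (nn hF 3) := by congr 1
  have k1 : Z hF hω (nn hF 4) • (g • m) = g • m := by
    rw [← e1', ← e1, mul_smul, mul_smul, inv_smul_smul, hm]
  obtain ⟨k2, k3⟩ := main2 hF hω hM k1
  constructor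
  · rw [← e2', ← e2, mul_smul, mul_smul, inv_smul_smul] at k2
    exact (MulAction.injective g) k2
  · have n3 : hermForm 5 F 2 (act g (u + v)) (act g (u + v)) = 0 := by
      rw [herm_act]; exact iso_add hF hu hv huv
    have e3 := conj_T hF g (u + v) (iso_add hF hu hv huv) n3
    have e3' : T hF _ n3 = T hF _ (isoA hF (show (4 : Fin 5) ≠ 3 by decide)) :=
      T_congr hF (by rw [act_add, h1, h2]) _ _
    rw [← e3', ← e3, mul_smul, mul_smul, inv_smul_smul] at k3
    exact (MulAction.injective g) k3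

/-- a vector fixed by one `Z(u)` is fixed by everything -/
theorem main4 (hM : IsUMod hF 5 M) {m : M} {u : Fin 5 → F} (hu : hermForm 5 F 2 u u = 1)
    (hm : Z hF hω hu • m = m) (k : SU 5 F 2) : k • m = m := by
  have hall : ∀ (v : Fin 5 → F) (hv : hermForm 5 F 2 v v = 1), Z hF hω hv • m = m := by
    intro v hv
    obtain ⟨t, ht, htu, htv⟩ := G0 (v := v) hF hu
    have h1 := (main3 hF hω hM hu ht (herm_eq_zero_swap hF htu) hm).1
    exact (main3 hF hω hM ht hv htv h1).1
  have hR : R (n := 5) hF ≤ MulAction.stabilizer (SU 5 F 2) m := by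
    unfold R
    rw [Subgroup.closure_le]
    rintro _ ⟨x, hx, hx0, rfl⟩
    obtain ⟨a, b, ha, hb, hab, rfl⟩ := split_iso hF hx hx0
    exact (main3 hF hω hM ha hb hab (hall a ha)).2
  rw [R_eq_top hF (by norm_num)] at hR
  exact hR (Subgroup.mem_top k)

end five

end Cfsg.Agent.H854.UMod
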