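import Mathlib
import Cfsg.Agent.Lib.Cores

/-!
# Two 3-transpositions with the same commuting set are equal modulo `O₂(G)`
-/

set_option autoImplicit false

namespace Cfsg.Agent.H854.Same

open Subgroup

variable {G : Type*} [Group G] {D : Set G}

/-- same commuting set -/
def R (D : Set G) (a b : G) : Prop := ∀ c ∈ D, (c * a = a * c ↔ c * b = b * c)

theorem R_refl (a : G) : R D a a := fun _ _ => Iff.rfl

theorem R_symm {a b : G} (h : R D a b) : R D b a := fun c hc => (h c hc).symm

theorem R_trans {a b c : G} (h : R D a b) (h' : R D b c) : R D a c :=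
  fun x hx => (h x hx).trans (h' x hx)

theorem R_conj (conj : ∀ g : G, ∀ d ∈ D, g * d * g⁻¹ ∈ D) (g : G) {a b : G} (h : R D a b) :
    R D (g * a * g⁻¹) (g * b * g⁻¹) := by
  intro c hc
  have hc' : g⁻¹ * c * g ∈ D := by
    have := conj g⁻¹ c hc
    rwa [inv_inv] at this
  have key : ∀ x : G, c * (g * x * g⁻¹) = (g * x * g⁻¹) * c ↔
      (g⁻¹ * c * g) * x = x * (g⁻¹ * c * g) := by
    intro x
    constructor
    · intro e
      calc (g⁻¹ * c * g) * x = g⁻¹ * (c * (g * x * g⁻¹)) * g := by group
        _ = g⁻¹ * ((g * x * g⁻¹) * c) * g := by rw [e]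
        _ = x * (g⁻¹ * c * g) := by group
    · intro e
      calc c * (g * x * g⁻¹) = g * ((g⁻¹ * c * g) * x) * g⁻¹ := by group
        _ = g * (x * (g⁻¹ * c * g)) * g⁻¹ := by rw [e]
        _ = (g * x * g⁻¹) * c := by group
  rw [key, key]
  exact h _ hc'

/-- a closure of pairwise commuting involutions is an elementary abelian 2-group -/
theorem sq_of_mem_closure {S : Set G} (h1 : ∀ x ∈ S, x * x = 1)
    (h2 : ∀ x ∈ S, ∀ y ∈ S, x * y = y * x) {x : G} (hx : x ∈ closure S) : x * x = 1 := by
  have hc : ∀ x ∈ closure S, ∀ y ∈ closure S, x * y = y * x := by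
    have h3 : closure S ≤ centralizer S := by
      rw [closure_le]
      intro x hx
      rw [SetLike.mem_coe, mem_centralizer_iff]
      intro y hy
      exact h2 y hy x hx
    have h4 : closure S ≤ centralizer (closure S : Set G) := by
      rw [closure_le]
      intro x hx
      rw [SetLike.mem_coe, mem_centralizer_iff]
      intro y hy
      exact (mem_centralizer_iff.1 (h3 hy) x hx).symm
    intro x hx y hy
    exact mem_centralizer_iff.1 (h4 hy) x hx
  induction hx using closure_induction with
  | mem x hx => exact h1 x hx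
  | one => rw [one_mul]
  | mul x y hx hy ihx ihy =>
    calc x * y * (x * y) = x * (y * x) * y := by simp only [mul_assoc]
      _ = (x * x) * (y * y) := by rw [hc y hy x hx]; simp only [mul_assoc]
      _ = 1 := by rw [ihx, ihy, one_mul]
  | inv x hx ih => rw [← mul_inv_rev, ih, inv_one]

theorem mem_pCore_of_same [Finite G] (sq : ∀ d ∈ D, d * d = 1)
    (conj : ∀ g : G, ∀ d ∈ D, g * d * g⁻¹ ∈ D)
    (braid : ∀ d ∈ D, ∀ e ∈ D, d * e = e * d ∨ d * e * d = e * d * e)
    {a b : G} (ha : a ∈ D) (hb : b ∈ D) (hab : R D a b) : a * b ∈ Cfsg.pCore 2 G := by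
  -- the kernel of the action on classes
  let K : Subgroup G :=
    { carrier := {g | ∀ f ∈ D, R D (g * f * g⁻¹) f}
      one_mem' := by
        intro f hf
        rw [one_mul, inv_one, mul_one]
        exact R_refl f
      mul_mem' := by
        intro g1 g2 h1 h2 f hf
        have e : g1 * g2 * f * (g1 * g2)⁻¹ = g1 * (g2 * f * g2⁻¹) * g1⁻¹ := by group
        rw [e]
        exact R_trans (h1 _ (conj g2 f hf)) (h2 f hf)
      inv_mem' := by
        intro g hg f hf
        have := hg _ (conj g⁻¹ f hf)
        have e : g * (g⁻¹ * f * g⁻¹⁻¹) * g⁻¹ = f := by group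
        rw [e] at this
        exact R_symm this }
  have hKn : K.Normal := by
    constructor
    intro g hg x f hf
    have h1 : R D (g * (x⁻¹ * f * x) * g⁻¹) (x⁻¹ * f * x) := by
      have hc := conj x⁻¹ f hf
      rw [inv_inv] at hc
      exact hg _ hc
    have h2 := R_conj conj x h1
    have e1 : x * (g * (x⁻¹ * f * x) * g⁻¹) * x⁻¹ = x * g * x⁻¹ * f * (x * g * x⁻¹)⁻¹ := by group
    have e2 : x * (x⁻¹ * f * x) * x⁻¹ = f := by group
    rwa [e1, e2] at h2
  have habK : a * b ∈ K := by
    intro f hf
    have haa := sq a ha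
    have hbb := sq b hb
    have hff := sq f hf
    have hai : a⁻¹ = a := inv_eq_of_mul_eq_one_left haa
    have hbi : b⁻¹ = b := inv_eq_of_mul_eq_one_left hbb
    have hfi : f⁻¹ = f := inv_eq_of_mul_eq_one_left hff
    rw [mul_inv_rev, hai, hbi]
    by_cases hc : f * a = a * f
    · have hc2 := (hab f hf).1 hc
      have e : a * b * f * (b * a) = f := by
        calc a * b * f * (b * a) = a * (b * f) * b * a := by simp only [mul_assoc]
          _ = (a * f) * (b * b) * a := by rw [← hc2]; simp only [mul_assoc]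
          _ = f * (a * a) := by rw [← hc, hbb]; simp only [mul_assoc, one_mul]
          _ = f := by rw [haa, mul_one]
      rw [e]
      exact R_refl f
    · have hc2 : ¬ f * b = b * f := fun e => hc ((hab f hf).2 e)
      have h1 := (braid f hf a ha).resolve_left hc
      have h2 := (braid f hf b hb).resolve_left hc2
      have h3 := R_conj conj f (R_symm hab)
      rw [hfi, h1, h2] at h3
      have h4 := R_conj conj a h3
      rw [hai] at h4
      have e1 : a * (b * f * b) * a = a * b * f * (b * a) := by simp only [mul_assoc]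
      have e2 : a * (a * f * a) * a = f := by
        calc a * (a * f * a) * a = (a * a) * f * (a * a) := by simp only [mul_assoc]
          _ = f := by rw [haa, one_mul, mul_one]
      rwa [e1, e2] at h4
  -- the elementary abelian subgroup
  let A : Subgroup G := closure {c | c ∈ D ∧ R D c a}
  have hAsq : ∀ x ∈ A, x * x = 1 := by
    intro x hx
    refine sq_of_mem_closure (S := {c | c ∈ D ∧ R D c a}) (fun c hc => sq c hc.1) ?_ hx
    rintro c ⟨hc, hca⟩ d ⟨hd, hda⟩
    have h1 : R D c d := R_trans hca (R_symm hda)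
    have := (h1 c hc).1 rfl
    exact this
  have hAK : ∀ k ∈ K, ∀ x ∈ A, k * x * k⁻¹ ∈ A := by
    intro k hk x hx
    induction hx using closure_induction with
    | mem x hx => exact subset_closure ⟨conj k x hx.1, R_trans (hk x hx.1) hx.2⟩
    | one => rw [mul_one, mul_inv_cancel]; exact A.one_mem
    | mul x y _ _ ihx ihy =>
      have e : k * (x * y) * k⁻¹ = (k * x * k⁻¹) * (k * y * k⁻¹) := by group
      rw [e]; exact A.mul_mem ihx ihy
    | inv x _ ih =>
      have e : k * x⁻¹ * k⁻¹ = (k * x * k⁻¹)⁻¹ := by group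
      rw [e]; exact A.inv_mem ih
  have hn : (A.subgroupOf K).Normal := by
    constructor
    intro x hx k
    rw [mem_subgroupOf] at hx ⊢
    exact hAK k k.2 x hx
  have hp : IsPGroup 2 (A.subgroupOf K) := by
    rintro ⟨x, hx⟩
    refine ⟨1, ?_⟩
    rw [mem_subgroupOf] at hx
    apply Subtype.ext
    apply Subtype.ext
    have := hAsq _ hx
    simpa [pow_two] using this
  have h1 := Cfsg.Agent.Lib.Cores.le_pCore hn hp
  have habA : a * b ∈ A := A.mul_mem (subset_closure ⟨ha, R_refl a⟩)
    (subset_closure ⟨hb, R_symm hab⟩)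
  have h2 : (⟨a * b, habK⟩ : K) ∈ Cfsg.pCore 2 K := h1 (by rw [mem_subgroupOf]; exact habA)
  have h3 : a * b ∈ (Cfsg.pCore 2 K).map K.subtype := ⟨_, h2, rfl⟩
  rw [Cfsg.Agent.Lib.Cores.map_subtype_pCore 2 hKn] at h3
  exact h3.2

end Cfsg.Agent.H854.Same
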