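import Cfsg.Agent.H854.Affine
import Cfsg.Agent.H854.Same

/-!
# Two classes of 3-transpositions acting quadratically on a faithful module coincide
-/

set_option autoImplicit false

namespace Cfsg.Agent.H854.StepOne

open Subgroup TM

variable {G M : Type*} [Group G] [AddCommGroup M] [DistribMulAction G M] {D E : Set G}

/-- a common non-zero element of `[M, d]` and `[M, e]` forces `de ∈ O₂(G)` -/
theorem mem_pCore_of_inter [Finite G] (hD : IsTM D M) {d e : G} (hd : d ∈ D) (he : e ∈ D) {z : M}
    (hz : z ≠ 0) (h1 : ∃ m : M, z = m + d • m) (h2 : ∃ m : M, z = m + e • m) :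
    d * e ∈ Cfsg.pCore 2 G := by
  obtain ⟨m1, h1⟩ := h1
  obtain ⟨m2, h2⟩ := h2
  apply Same.mem_pCore_of_same hD.sq hD.conj hD.braid hd he
  intro c hc
  constructor
  · intro e1
    by_contra e2
    apply hz
    apply hD.eq_zero_of_fix he hc (fun e => e2 e.symm) h2
    rw [h1]
    exact hD.comm d hd c hc e1.symm m1
  · intro e1
    by_contra e2
    apply hz
    apply hD.eq_zero_of_fix hd hc (fun e => e2 e.symm) h1
    rw [h2]
    exact hD.comm e he c hc e1.symm m2

theorem eq_of_mul_mem_bot (hO : Cfsg.pCore 2 G = ⊥) {d e : G} (he : e * e = 1)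
    (h : d * e ∈ Cfsg.pCore 2 G) : d = e := by
  rw [hO, mem_bot] at h
  rw [← inv_of_sq he]
  exact eq_inv_of_mul_eq_one_left h

/-- `[M, d] ∩ C_M(e) = 0` for an involution `e` not commuting with `d` -/
theorem M1 [Finite G] (hO : Cfsg.pCore 2 G = ⊥) (hD : IsTM D M) {d e : G} (hd : d ∈ D)
    (he : e * e = 1) (hn : d * e ≠ e * d) {z m : M} (hz : z = m + d • m) (hfix : e • z = z) :
    z = 0 := by
  by_contra hz0
  have hc : e * d * e ∈ D := by
    have := hD.conj e d hd
    rwa [inv_of_sq he] at this
  have h2 : z = (e • m) + (e * d * e) • (e • m) := by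
    rw [mul_smul, mul_smul, smul_smul e e, he, one_smul, ← smul_add, ← hz, hfix]
  have h3 := eq_of_mul_mem_bot hO (hD.sq _ hc)
    (mem_pCore_of_inter hD hd hc hz0 ⟨m, hz⟩ ⟨_, h2⟩)
  apply hn
  nth_rewrite 1 [h3]
  rw [mul_assoc, he, mul_one]

theorem eq_one_of_trivial (faith : ∀ g : G, (∀ m : M, g • m = m) → g = 1) {d : G}
    (h : ∀ m : M, m + d • m = 0) (h2 : ∀ m : M, m + m = 0) : d = 1 := by
  apply faith
  intro m
  have := h m
  rw [add_eq_zero_iff_eq_neg] at this
  rw [← neg_inj, ← this]
  exact (neg_eq_of_add_eq_zero_left (h2 m)).symm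

theorem MA [Finite G] (faith : ∀ g : G, (∀ m : M, g • m = m) → g = 1)
    (hO : Cfsg.pCore 2 G = ⊥) (hD : IsTM D M) (hE : IsTM E M) {d e : G} (hd : d ∈ D) (he : e ∈ E)
    (hn : d * e ≠ e * d) : d * (e * d * e) ≠ (e * d * e) * d := by
  intro hc
  have hee := hE.sq e he
  have hdd := hD.sq d hd
  have hd' : e * d * e ∈ D := by
    have := hD.conj e d hd
    rwa [inv_of_sq hee] at this
  have h1 : d = 1 := by
    refine eq_one_of_trivial faith (fun m => ?_) hD.two
    have a1 := hD.comm d hd _ hd' hc m
    have a2 : d • e • (m + d • m) = e • (m + d • m) := by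
      have := congrArg (fun x => e • x) a1
      simp only [mul_smul] at this
      rwa [smul_smul e e, hee, one_smul] at this
    have a3 : d • ((m + d • m) + e • (m + d • m)) = (m + d • m) + e • (m + d • m) := by
      rw [smul_add d (m + d • m), a2, hD.fix_self hd]
    have a4 := M1 hO hE he hdd (fun h => hn h.symm) rfl a3
    exact M1 hO hD hd hee hn rfl (hD.eq_of_add a4).symm
  apply hn
  rw [h1, one_mul, mul_one]

/-- the third transposition `f` of `⟨d, e d e⟩` commutes with `e` and `[M,e] ∩ [M,f] ≠ 0` -/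
theorem M2 [Finite G] (faith : ∀ g : G, (∀ m : M, g • m = m) → g = 1)
    (hO : Cfsg.pCore 2 G = ⊥) (hD : IsTM D M) (hE : IsTM E M) {d e : G} (hd : d ∈ D) (he : e ∈ E)
    (hn : d * e ≠ e * d) :
    ∃ f ∈ D, e * f = f * e ∧ d * f ≠ f * d ∧ e * d * e = f * d * f ∧
      ∃ w : M, w ≠ 0 ∧ (∃ m : M, w = m + e • m) ∧ (∃ m : M, w = m + f • m) := by
  have hn' := MA faith hO hD hE hd he hn
  have hee := hE.sq e he
  have hdd := hD.sq d hd
  have hd' : e * d * e ∈ D := by
    have := hD.conj e d hd
    rwa [inv_of_sq hee] at this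
  have hdd' := hD.sq _ hd'
  have ede : e * (e * d * e) * e = d := by
    calc e * (e * d * e) * e = (e * e) * d * (e * e) := by simp only [mul_assoc]
      _ = d := by rw [hee, one_mul, mul_one]
  have hb := (hD.braid d hd _ hd').resolve_left hn'
  generalize hdef : e * d * e = d' at *
  have hf : d * d' * d ∈ D := by
    have := hD.conj d d' hd'
    rwa [inv_of_sq hdd] at this
  have hff := hD.sq _ hf
  have efe : e * (d * d' * d) * e = d * d' * d := by
    calc e * (d * d' * d) * e = e * d * 1 * d' * 1 * d * e := by simp only [mul_one, mul_assoc]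
      _ = e * d * (e * e) * d' * (e * e) * d * e := by rw [hee]
      _ = (e * d * e) * (e * d' * e) * (e * d * e) := by simp only [mul_assoc]
      _ = d' * d * d' := by rw [hdef, ede]
      _ = d * d' * d := hb.symm
  have ef : e * (d * d' * d) = (d * d' * d) * e := by
    calc e * (d * d' * d) = e * (d * d' * d) * (e * e) := by rw [hee, mul_one]
      _ = (e * (d * d' * d) * e) * e := by simp only [mul_assoc]
      _ = _ := by rw [efe]
  have fdf : (d * d' * d) * d * (d * d' * d) = d' := by
    calc (d * d' * d) * d * (d * d' * d) = d * d' * (d * d) * (d * d' * d) := by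
          simp only [mul_assoc]
      _ = d * d' * (d' * d * d') := by rw [hdd, mul_one, hb]
      _ = d * (d' * d') * d * d' := by simp only [mul_assoc]
      _ = d' := by rw [hdd', mul_one, hdd, one_mul]
  refine ⟨d * d' * d, hf, ef, ?_, ?_, ?_⟩
  · intro h1
    apply hn'
    have h2 : d * (d * d' * d) = d' * d := by
      calc d * (d * d' * d) = (d * d) * d' * d := by simp only [mul_assoc]
        _ = _ := by rw [hdd, one_mul]
    have h3 : (d * d' * d) * d = d * d' := by rw [mul_assoc, hdd, mul_one]
    rw [h2, h3] at h1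
    exact h1.symm
  · exact fdf.symm
  by_contra hcon
  push Not at hcon
  have hcube := cube_of_braid hdd hdd' hb
  have hσ1 : d * d' ≠ 1 := hD.ne_one_of hd hd' hn'
  have eσ : e * (d * d') * e = (d * d')⁻¹ := by
    calc e * (d * d') * e = e * d * 1 * d' * e := by simp only [mul_one, mul_assoc]
      _ = e * d * (e * e) * d' * e := by rw [hee]
      _ = (e * d * e) * (e * d' * e) := by simp only [mul_assoc]
      _ = d' * d := by rw [hdef, ede]
      _ = (d * d')⁻¹ := by rw [mul_inv_rev, inv_of_sq hdd, inv_of_sq hdd']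
  have fσ : (d * d' * d) * (d * d') * (d * d' * d) = (d * d')⁻¹ := by
    calc (d * d' * d) * (d * d') * (d * d' * d)
        = d * d' * (d * d) * d' * (d * d' * d) := by simp only [mul_assoc]
      _ = d * (d' * d') * (d * d' * d) := by rw [hdd]; simp only [mul_one, mul_assoc]
      _ = (d * d) * d' * d := by rw [hdd']; simp only [mul_one, mul_assoc]
      _ = (d * d')⁻¹ := by rw [hdd, one_mul, mul_inv_rev, inv_of_sq hdd, inv_of_sq hdd']
  generalize hfdef : d * d' * d = f at *
  generalize hσdef : d * d' = σ at *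
  have eσ' := conj_inv_of hee eσ
  -- σ commutes with e f
  have hzσ : (e * f) * σ = σ * (e * f) := by
    calc (e * f) * σ = (e * f) * σ * (f * f) := by rw [hff, mul_one]
      _ = e * (f * σ * f) * f := by simp only [mul_assoc]
      _ = (e * σ⁻¹ * (e * e)) * f := by rw [fσ, hee, mul_one]
      _ = (e * σ⁻¹ * e) * e * f := by simp only [mul_assoc]
      _ = σ * (e * f) := by rw [eσ', mul_assoc]
  -- a vector fixed by ef is fixed by e
  have key : ∀ v : M, (e * f) • v = v → e • v = v := by
    intro v hv
    have h1 : f • v = e • v := by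
      have := congrArg (fun x => e • x) hv
      simp only [mul_smul] at this
      rwa [smul_smul e e, hee, one_smul] at this
    by_contra hne
    refine hcon (v + e • v) ?_ ⟨v, rfl⟩ v (by rw [h1])
    intro h0
    exact hne (hD.eq_of_add h0).symm
  -- a non-zero vector in the kernel of the norm
  have hex : ∃ v0 : M, v0 ≠ 0 ∧ N σ v0 = 0 := by
    by_contra hno
    push Not at hno
    apply hσ1
    apply faith
    intro m
    by_contra hm
    refine hno (m + σ • m) (fun h0 => hm (hD.eq_of_add h0).symm) ?_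
    rw [N_add]
    have : N σ (σ • m) = N σ m := by
      have h1 := smul_N hcube m
      rw [← h1]
      simp only [N_def, smul_add, smul_smul, mul_assoc]
    rw [this, hD.two]
  obtain ⟨v0, hv0, hNv0⟩ := hex
  have hzz : (e * f) * (e * f) = 1 := by
    calc (e * f) * (e * f) = (e * f) * (f * e) := by rw [ef]
      _ = e * (f * f) * e := by simp only [mul_assoc]
      _ = 1 := by rw [hff, mul_one, hee]
  have hNz : ∀ v : M, N σ ((e * f) • v) = (e * f) • N σ v := by
    intro v
    have h2 : σ * σ * (e * f) = (e * f) * (σ * σ) := by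
      rw [mul_assoc, ← hzσ, ← mul_assoc, ← hzσ, mul_assoc]
    simp only [N_def, smul_add, smul_smul, h2, ← hzσ]
  have hex2 : ∃ v : M, v ≠ 0 ∧ N σ v = 0 ∧ (e * f) • v = v := by
    by_cases h0 : v0 + (e * f) • v0 = 0
    · exact ⟨v0, hv0, hNv0, (hD.eq_of_add h0).symm⟩
    · refine ⟨_, h0, ?_, ?_⟩
      · rw [N_add, hNz, hNv0, smul_zero, add_zero]
      · rw [smul_add, smul_smul, hzz, one_smul, add_comm]
  obtain ⟨v, hv, hNv, hzv⟩ := hex2
  have h1 := key v hzv
  have h2 : e • σ • v = σ • v := by
    apply key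
    rw [smul_smul, hzσ, mul_smul, hzv]
  have h3 : σ • v = σ⁻¹ • v := by
    have h4 : e * σ = σ⁻¹ * e := by
      rw [← eσ, mul_assoc (e * σ) e e, hee, mul_one]
    rw [← h2, smul_smul, h4, mul_smul, h1]
  have h5 : σ • v = v := by
    have h6 : (σ * σ) • v = v := by
      rw [mul_smul, h3, smul_inv_smul]
    calc σ • v = σ • ((σ * σ) • v) := by rw [h6]
      _ = (σ * σ * σ) • v := by rw [smul_smul, mul_assoc]
      _ = v := by rw [hcube, one_smul]
  apply hv
  rw [← N_of_fix hD.two h5]
  exact hNv

theorem M3 [Finite G] (hO : Cfsg.pCore 2 G = ⊥) (hD : IsTM D M) (hE : IsTM E M) {e f g : G}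
    (he : e ∈ E) (hf : f ∈ D) (hg : g ∈ D) {w : M} (hw : w ≠ 0) (h1 : ∃ m : M, w = m + e • m)
    (h2 : ∃ m : M, w = m + f • m) (hge : g * e ≠ e * g) : g * f ≠ f * g := by
  intro hgf
  obtain ⟨m1, h1⟩ := h1
  obtain ⟨m2, h2⟩ := h2
  apply hw
  apply M1 hO hE he (hD.sq g hg) (fun h => hge h.symm) h1
  rw [h2]
  exact hD.comm f hf g hg hgf.symm m2

theorem central_mem_pCore {x : G} (hx : x * x = 1) (hc : ∀ g : G, g * x = x * g) :
    x ∈ Cfsg.pCore 2 G := by
  have hn : (zpowers x).Normal := by
    constructor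
    rintro y ⟨k, rfl⟩ g
    refine ⟨k, ?_⟩
    have : Commute g (x ^ k) := (show Commute g x from hc g).zpow_right k
    simp only
    rw [this.eq, mul_inv_cancel_right]
  have hp : IsPGroup 2 (zpowers x) := by
    rintro ⟨y, hy⟩
    obtain ⟨k, rfl⟩ := hy
    refine ⟨1, ?_⟩
    apply Subtype.ext
    have : (x ^ k) ^ 2 = 1 := by
      rw [← zpow_natCast, ← zpow_mul, mul_comm, zpow_mul]
      have h2 : x ^ ((2 : ℕ) : ℤ) = 1 := by rw [zpow_natCast, pow_two, hx]
      rw [h2, one_zpow]
    simpa using this
  exact Cfsg.Agent.Lib.Cores.le_pCore hn hp (mem_zpowers x)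

theorem commute_of_closure (hcl : closure D = ⊤) {x : G} (h : ∀ d ∈ D, d * x = x * d) (g : G) :
    g * x = x * g := by
  have : closure D ≤ centralizer {x} := by
    rw [closure_le]
    intro d hd
    rw [SetLike.mem_coe, mem_centralizer_singleton_iff]
    exact h d hd
  have hg : g ∈ closure D := by rw [hcl]; trivial
  exact mem_centralizer_singleton_iff.1 (this hg)

/-- Step one: two generating classes of 3-transpositions of a group with `O₂ = 1` acting
faithfully and "quadratically" on the same elementary abelian 2-group meet. -/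
theorem step_one [Finite G] (faith : ∀ g : G, (∀ m : M, g • m = m) → g = 1)
    (hO : Cfsg.pCore 2 G = ⊥) (hD : IsTM D M) (hE : IsTM E M) (clD : closure D = ⊤)
    (conjD : ∀ a ∈ D, ∀ b ∈ D, ∃ g : G, g * a * g⁻¹ = b)
    {e : G} (he : e ∈ E) (he1 : e ≠ 1) : ∃ d ∈ D, d ∈ E := by
  by_contra hdis
  push Not at hdis
  have hee := hE.sq e he
  -- some h ∈ D does not commute with e
  have hexh : ∃ h ∈ D, h * e ≠ e * h := by
    by_contra hno
    push Not at hno
    apply he1
    have := central_mem_pCore hee (commute_of_closure clD hno)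
    rwa [hO, mem_bot] at this
  obtain ⟨h, hh, hhe⟩ := hexh
  obtain ⟨f, hf, hef, hhf, hconj, w, hw, hwe, hwf⟩ := M2 faith hO hD hE hh he hhe
  -- claim 4
  have claim4 : ∃ g ∈ D, g * e = e * g ∧ g * f ≠ f * g := by
    by_contra hno
    push Not at hno
    have hiff : ∀ g ∈ D, g * e = e * g ↔ g * f = f * g := by
      intro g hg
      refine ⟨hno g hg, fun h1 => ?_⟩
      by_contra h2
      exact M3 hO hD hE he hf hg hw hwe hwf h2 h1
    have hcent : ∀ x ∈ D, x * (e * f) = (e * f) * x := by
      intro x hx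
      by_cases hxe : x * e = e * x
      · have hxf := (hiff x hx).1 hxe
        rw [← mul_assoc, hxe, mul_assoc, hxf, mul_assoc]
      · obtain ⟨f', hf', hef', hxf', hconj', w', hw', hwe', hwf'⟩ := M2 faith hO hD hE hx he hxe
        -- f' = f
        have hsub : {g | g ∈ D ∧ g * f' = f' * g} ⊆ {g | g ∈ D ∧ g * f = f * g} := by
          rintro g ⟨hg, hgf'⟩
          refine ⟨hg, (hiff g hg).1 ?_⟩
          by_contra h2
          exact M3 hO hD hE he hf' hg hw' hwe' hwf' h2 hgf'
        obtain ⟨y, hy⟩ := conjD f hf f' hf'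
        have himg : (fun g => y * g * y⁻¹) '' {g | g ∈ D ∧ g * f = f * g} ⊆
            {g | g ∈ D ∧ g * f' = f' * g} := by
          rintro _ ⟨g, ⟨hg, hgf⟩, rfl⟩
          refine ⟨hD.conj y g hg, ?_⟩
          simp only
          rw [← hy]
          calc y * g * y⁻¹ * (y * f * y⁻¹) = y * (g * f) * y⁻¹ := by group
            _ = y * (f * g) * y⁻¹ := by rw [hgf]
            _ = y * f * y⁻¹ * (y * g * y⁻¹) := by group
        have hinj : Function.Injective (fun g : G => y * g * y⁻¹) := by
          intro a b hab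
          simpa using hab
        have hle : Set.ncard {g | g ∈ D ∧ g * f = f * g} ≤
            Set.ncard {g | g ∈ D ∧ g * f' = f' * g} := by
          rw [← Set.ncard_image_of_injective _ hinj]
          exact Set.ncard_le_ncard himg (Set.toFinite _)
        have heq := Set.eq_of_subset_of_ncard_le hsub hle (Set.toFinite _)
        have hff' : f' = f := by
          apply eq_of_mul_mem_bot hO (hD.sq f hf)
          apply Same.mem_pCore_of_same hD.sq hD.conj hD.braid hf' hf
          intro c hc
          constructor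
          · intro h1
            have : c ∈ {g | g ∈ D ∧ g * f' = f' * g} := ⟨hc, h1⟩
            rw [heq] at this
            exact this.2
          · intro h1
            have : c ∈ {g | g ∈ D ∧ g * f = f * g} := ⟨hc, h1⟩
            rw [← heq] at this
            exact this.2
        rw [hff'] at hconj'
        have hff := hD.sq f hf
        calc x * (e * f) = (e * e) * x * e * f := by rw [hee]; simp only [one_mul, mul_assoc]
          _ = e * (e * x * e) * f := by simp only [mul_assoc]
          _ = e * (f * x * f) * f := by rw [hconj']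
          _ = (e * f) * x * (f * f) := by simp only [mul_assoc]
          _ = (e * f) * x := by rw [hff, mul_one]
    have hefsq : (e * f) * (e * f) = 1 := by
      calc (e * f) * (e * f) = (e * f) * (f * e) := by rw [hef]
        _ = e * (f * f) * e := by simp only [mul_assoc]
        _ = 1 := by rw [hD.sq f hf, mul_one, hee]
    have h1 := central_mem_pCore hefsq (commute_of_closure clD hcent)
    have h2 := eq_of_mul_mem_bot hO (hD.sq f hf) h1
    exact hdis f hf (h2 ▸ he)
  obtain ⟨g, hg, hge, hgf⟩ := claim4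
  have hff := hD.sq f hf
  have hgg := hD.sq g hg
  have hhh := hD.sq h hh
  -- h does not commute with g
  have hhg : h * g ≠ g * h := by
    obtain ⟨m1, hm1⟩ := hwe
    obtain ⟨m2, hm2⟩ := hwf
    refine M3 hO hD hE he hg hh (w := w + g • w) ?_ ⟨m1 + g • m1, ?_⟩ ⟨w, rfl⟩ hhe
    · intro h0
      apply hw
      exact hD.eq_zero_of_fix hf hg (fun h => hgf h.symm) hm2 (hD.eq_of_add h0).symm
    · have : e • g • m1 = g • e • m1 := by rw [smul_smul, ← hge, mul_smul]
      rw [smul_add, this]
      nth_rewrite 1 [hm1]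
      nth_rewrite 1 [hm1]
      rw [smul_add]
      abel
  have hgfg : g * f * g ∈ D := by
    have := hD.conj g f hf
    rwa [inv_of_sq hgg] at this
  have hhgfg : h * (g * f * g) ≠ (g * f * g) * h := by
    obtain ⟨m1, hm1⟩ := hwe
    obtain ⟨m2, hm2⟩ := hwf
    refine M3 hO hD hE he hgfg hh (w := g • w) ?_ ⟨g • m1, ?_⟩ ⟨g • m2, ?_⟩ hhe
    · intro h0
      apply hw
      rw [smul_eq_zero_iff_eq] at h0
      exact h0
    · rw [smul_smul, ← hge, mul_smul, ← smul_add, ← hm1]
    · rw [mul_smul, mul_smul, smul_smul g g, hgg, one_smul, ← smul_add, ← hm2]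
  have hbr := (hD.braid g hg f hf).resolve_left hgf
  have A : Aff D f g h :=
    { hf := hf
      hg := hg
      hh := hh
      fg := fun h => hgf h.symm
      fh := fun h => hhf h.symm
      gh := fun h => hhg h.symm
      fgfh := by
        rw [← hbr]
        exact fun h => hhgfg h.symm }
  obtain ⟨hs, ht, hst, hst'⟩ := A.relations hD
  obtain ⟨c1, c2, hz3⟩ := A.zeta_spec hD
  have hst1 := A.st_ne hD
  have hst2 := A.s_ne_t
  have fs : f * (f * g) * f = (f * g)⁻¹ := conj_prod hff hgg
  have ft : f * (f * h) * f = (f * h)⁻¹ := conj_prod hff hhh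
  have hs1 : f * g ≠ 1 := hD.ne_one_of hf hg A.fg
  have ht1 : f * h ≠ 1 := hD.ne_one_of hf hh A.fh
  have hz : Aff.zeta f g h = (f * g) * (f * h) * (f * g)⁻¹ * (f * h)⁻¹ := rfl
  -- zeta is non-trivial
  have hz1 : Aff.zeta f g h ≠ 1 := by
    intro h0
    have hcomm : (f * g) * (f * h) = (f * h) * (f * g) := by
      rw [hz] at h0
      calc (f * g) * (f * h) = ((f * g) * (f * h) * (f * g)⁻¹ * (f * h)⁻¹) * ((f * h) * (f * g)) := by
            group
        _ = (f * h) * (f * g) := by rw [h0, one_mul]
    have htriv := hD.trivial_of_inv_two hf hs ht hcomm fs ft hs1 ht1 hst1 (by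
      rw [← inv_eq_mul_self ht]
      intro h1
      exact hst2 (mul_inv_eq_one.1 h1))
    have hf1 := faith f htriv
    apply A.fg
    rw [hf1, one_mul, mul_one]
  have hnc : ¬ Commute (f * g) (f * h) := by
    intro h0
    apply hz1
    rw [hz, h0.eq]; group
  -- action of e
  have hef' : e * f * e = f := by rw [hef, mul_assoc, hee, mul_one]
  have heg' : e * g * e = g := by rw [← hge, mul_assoc, hee, mul_one]
  have es : e * (f * g) * e = f * g := by
    calc e * (f * g) * e = e * f * 1 * g * e := by simp only [mul_one, mul_assoc]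
      _ = e * f * (e * e) * g * e := by rw [hee]
      _ = (e * f * e) * (e * g * e) := by simp only [mul_assoc]
      _ = f * g := by rw [hef', heg']
  have et : e * (f * h) * e = (f * h)⁻¹ := by
    calc e * (f * h) * e = e * f * 1 * h * e := by simp only [mul_one, mul_assoc]
      _ = e * f * (e * e) * h * e := by rw [hee]
      _ = (e * f * e) * (e * h * e) := by simp only [mul_assoc]
      _ = f * (f * h * f) := by rw [hef', hconj]
      _ = (f * f) * h * f := by simp only [mul_assoc]
      _ = (f * h)⁻¹ := by rw [hff, one_mul, mul_inv_rev, inv_of_sq hff, inv_of_sq hhh]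
  have es' : e * (f * g)⁻¹ * e = (f * g)⁻¹ := by
    have := congrArg (fun x => x⁻¹) es
    simp only [mul_inv_rev, inv_of_sq hee] at this ⊢
    rwa [← mul_assoc] at this
  have et' := conj_inv_of hee et
  have ez : e * Aff.zeta f g h * e = (Aff.zeta f g h)⁻¹ := by
    have e1 : e * Aff.zeta f g h * e = (f * g) * (f * h)⁻¹ * (f * g)⁻¹ * (f * h) := by
      calc e * Aff.zeta f g h * e
          = e * ((f * g) * 1 * (f * h) * 1 * (f * g)⁻¹ * 1 * (f * h)⁻¹) * e := by
            rw [hz]; simp only [mul_one]
        _ = e * ((f * g) * (e * e) * (f * h) * (e * e) * (f * g)⁻¹ * (e * e) * (f * h)⁻¹) * e := by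
            rw [hee]
        _ = (e * (f * g) * e) * (e * (f * h) * e) * (e * (f * g)⁻¹ * e) * (e * (f * h)⁻¹ * e) := by
            simp only [mul_assoc]
        _ = _ := by rw [es, et, es', et']
    have e2 : (f * g) * (f * h)⁻¹ * (f * g)⁻¹ * (f * h) =
        (f * h)⁻¹ * ((Aff.zeta f g h)⁻¹ * (f * h)) := by rw [hz]; group
    rw [e1, e2, ← (c2.inv_right).eq, inv_mul_cancel_left]
  have htriv := hE.trivial_of_inv_two he ht hz3 c2.eq et ez ht1 hz1 (by
      intro h0
      apply hnc
      have : f * h = (Aff.zeta f g h)⁻¹ := eq_inv_of_mul_eq_one_left h0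
      rw [this]
      exact c1.inv_right) (by
      intro h0
      apply hnc
      have : f * h = (Aff.zeta f g h * Aff.zeta f g h)⁻¹ := eq_inv_of_mul_eq_one_left h0
      rw [this]
      exact (c1.mul_right c1).inv_right)
  exact he1 (faith e htriv)

end Cfsg.Agent.H854.StepOne
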