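import Mathlib

/-!
# Modules in characteristic two for 3-transposition groups

`IsTM D M`: a normal set `D` of 3-transpositions of a group `G` acting on an elementary abelian
2-group `M` (written additively) such that `[M, d]` is centralised by every `e ∈ D` commuting with
`d`, and `C_M(de) ≤ C_M(d)` for non-commuting `d, e ∈ D`.
-/

set_option autoImplicit false

namespace Cfsg.Agent.H854.TM

/-- A normal set of 3-transpositions acting on an elementary abelian 2-group in the way it does
on a normal elementary abelian 2-subgroup. -/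
structure IsTM {G : Type*} [Group G] (D : Set G) (M : Type*) [AddCommGroup M]
    [DistribMulAction G M] : Prop where
  two : ∀ m : M, m + m = 0
  sq : ∀ d ∈ D, d * d = 1
  conj : ∀ g : G, ∀ d ∈ D, g * d * g⁻¹ ∈ D
  braid : ∀ d ∈ D, ∀ e ∈ D, d * e = e * d ∨ d * e * d = e * d * e
  comm : ∀ d ∈ D, ∀ e ∈ D, d * e = e * d → ∀ m : M, e • (m + d • m) = m + d • m
  ncomm : ∀ d ∈ D, ∀ e ∈ D, d * e ≠ e * d → ∀ m : M, (d * e) • m = m → d • m = m

section group

variable {G : Type*} [Group G]

theorem inv_of_sq {d : G} (h : d * d = 1) : d⁻¹ = d := inv_eq_of_mul_eq_one_left h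

/-- if `d` is an involution and `d x d = x⁻¹` then `d x⁻¹ d = x` -/
theorem conj_inv_of {d x : G} (hd : d * d = 1) (h : d * x * d = x⁻¹) : d * x⁻¹ * d = x := by
  rw [← h]
  calc d * (d * x * d) * d = (d * d) * x * (d * d) := by simp only [mul_assoc]
    _ = x := by rw [hd]; simp

theorem cube_of_braid {d e : G} (hd : d * d = 1) (he : e * e = 1) (h : d * e * d = e * d * e) :
    (d * e) * (d * e) * (d * e) = 1 := by
  calc (d * e) * (d * e) * (d * e) = (d * e * d) * (e * d * e) := by simp only [mul_assoc]
    _ = (d * e * d) * (d * e * d) := by rw [h]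
    _ = d * e * (d * d) * e * d := by simp only [mul_assoc]
    _ = d * (e * e) * d := by rw [hd]; simp only [mul_assoc, mul_one]
    _ = 1 := by rw [he, mul_one, hd]

theorem inv_eq_mul_self {x : G} (hx : x * x * x = 1) : x⁻¹ = x * x :=
  inv_eq_of_mul_eq_one_left hx

theorem conj_prod {d e : G} (hd : d * d = 1) (he : e * e = 1) : d * (d * e) * d = (d * e)⁻¹ := by
  rw [mul_inv_rev, inv_of_sq hd, inv_of_sq he, ← mul_assoc, hd, one_mul]

theorem conj_prod' {d e : G} (hd : d * d = 1) (he : e * e = 1) : e * (d * e) * e = (d * e)⁻¹ := by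
  rw [mul_inv_rev, inv_of_sq hd, inv_of_sq he, mul_assoc, mul_assoc, he, mul_one]

end group

variable {G M : Type*} [Group G] [AddCommGroup M] [DistribMulAction G M] {D : Set G}

/-- the norm `1 + x + x²` -/
def N (x : G) (m : M) : M := m + x • m + (x * x) • m

theorem N_def (x : G) (m : M) : N x m = m + x • m + (x * x) • m := rfl

theorem N_add (x : G) (m n : M) : N x (m + n) = N x m + N x n := by
  simp only [N_def, smul_add]; abel

theorem N_zero (x : G) : N x (0 : M) = 0 := by
  simp [N_def]

theorem smul_N {x : G} (hx : x * x * x = 1) (m : M) : x • N x m = N x m := by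
  have h : x • (x * x) • m = m := by
    rw [smul_smul, ← mul_assoc, hx, one_smul]
  simp only [N_def, smul_add, h, smul_smul]
  abel

theorem N_of_fix (h2 : ∀ m : M, m + m = 0) {x : G} {m : M} (hm : x • m = m) : N x m = m := by
  simp only [N_def, mul_smul, hm]
  rw [h2, zero_add]

/-- the norm of an inverted element commutes with the inverting element -/
theorem N_conj {d x : G} (hd : d * d = 1) (hx : x * x * x = 1) (h : d * x * d = x⁻¹) (m : M) :
    N x (d • m) = d • N x m := by
  have h1 : x * d = d * (x * x) := by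
    rw [← inv_eq_mul_self hx, ← h]
    calc x * d = (d * d) * x * d := by rw [hd, one_mul]
      _ = d * (d * x * d) := by simp only [mul_assoc]
  have h2 : x * x * d = d * x := by
    calc x * x * d = x * (x * d) := by rw [mul_assoc]
      _ = (x * d) * (x * x) := by rw [h1, ← mul_assoc, h1]
      _ = d * (x * x) * (x * x) := by rw [h1]
      _ = d * x * (x * x * x) := by simp only [mul_assoc]
      _ = d * x := by rw [hx, mul_one]
  simp only [N_def, smul_add, smul_smul, h1, h2]
  abel

namespace IsTM

variable (h : IsTM D M)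

include h

theorem neg (m : M) : -m = m := neg_eq_of_add_eq_zero_left (h.two m)

theorem eq_of_add {m n : M} (e : m + n = 0) : m = n := by
  rw [add_eq_zero_iff_eq_neg, h.neg] at e
  exact e

theorem fix_self {d : G} (hd : d ∈ D) (m : M) : d • (m + d • m) = m + d • m := by
  rw [smul_add, smul_smul, h.sq d hd, one_smul, add_comm]

theorem cube {d e : G} (hd : d ∈ D) (he : e ∈ D) (hn : d * e ≠ e * d) :
    (d * e) * (d * e) * (d * e) = 1 :=
  cube_of_braid (h.sq d hd) (h.sq e he) ((h.braid d hd e he).resolve_left hn)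

theorem ne_one_of {d e : G} (hd : d ∈ D) (he : e ∈ D) (hn : d * e ≠ e * d) : d * e ≠ 1 := by
  intro h1
  apply hn
  have : d = e := by
    rw [← inv_of_sq (h.sq e he)]
    exact eq_inv_of_mul_eq_one_left h1
  rw [this]

/-- conjugate of `d` under an element inverted by `d` -/
theorem conj_mul {d x : G} (hd : d ∈ D) (hinv : d * x * d = x⁻¹) :
    d * (x⁻¹ * d * x) = x * x := by
  have h1 := conj_inv_of (h.sq d hd) hinv
  calc d * (x⁻¹ * d * x) = (d * x⁻¹ * d) * x := by simp only [mul_assoc]
    _ = x * x := by rw [h1]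

/-- T1: an element inverting `x ≠ 1` of order three centralises the centraliser of `x` -/
theorem fix_of_inv {d x : G} (hd : d ∈ D) (hx : x * x * x = 1) (hx1 : x ≠ 1)
    (hinv : d * x * d = x⁻¹) {m : M} (hm : x • m = m) : d • m = m := by
  have he : x⁻¹ * d * x ∈ D := by
    have := h.conj x⁻¹ d hd
    rwa [inv_inv] at this
  have h1 := h.conj_mul hd hinv
  have h2 : (x⁻¹ * d * x) * d = x := by
    calc (x⁻¹ * d * x) * d = x⁻¹ * (d * x * d) := by simp only [mul_assoc]
      _ = x⁻¹ * x⁻¹ := by rw [hinv]
      _ = x := by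
        rw [inv_eq_mul_self hx]
        calc x * x * (x * x) = (x * x * x) * x := by simp only [mul_assoc]
          _ = x := by rw [hx, one_mul]
  apply h.ncomm d hd _ he _ m
  · rw [h1, mul_smul, hm, hm]
  · rw [h1, h2]
    intro h3
    apply hx1
    exact mul_left_cancel (h3.trans (mul_one x).symm)

/-- T2: the norm of an inverted element kills `[M, d]` -/
theorem N_comm {d x : G} (hd : d ∈ D) (hx : x * x * x = 1) (hx1 : x ≠ 1)
    (hinv : d * x * d = x⁻¹) (m : M) : N x (m + d • m) = 0 := by
  rw [N_add, N_conj (h.sq d hd) hx hinv, h.fix_of_inv hd hx hx1 hinv (smul_N hx m), h.two]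

/-- T3: `[M, d] ∩ C_M(f) = 0` for non-commuting `d, f` -/
theorem eq_zero_of_fix {d f : G} (hd : d ∈ D) (hf : f ∈ D) (hn : d * f ≠ f * d) {z m : M}
    (hz : z = m + d • m) (hfz : f • z = z) : z = 0 := by
  have h1 : (d * f) • z = z := by
    rw [mul_smul, hfz, hz, h.fix_self hd]
  have h2 := h.N_comm hd (h.cube hd hf hn) (h.ne_one_of hd hf hn)
    (conj_prod (h.sq d hd) (h.sq f hf)) m
  rw [← hz, N_of_fix h.two h1] at h2
  exact h2

end IsTM

/-- the characteristic two identity for a pair of commuting elements of order three -/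
theorem nine (h2 : ∀ m : M, m + m = 0) (v v10 v20 v01 v02 v11 v22 v12 v21 : M) :
    v = (v + v10 + v20) + (v + v01 + v02) + (v + v11 + v22) + (v + v12 + v21) +
      ((v + v01 + v02) + (v10 + v11 + v12) + (v20 + v21 + v22)) := by
  have e : (v + v10 + v20) + (v + v01 + v02) + (v + v11 + v22) + (v + v12 + v21) +
      ((v + v01 + v02) + (v10 + v11 + v12) + (v20 + v21 + v22)) =
      v + (v + v) + (v + v) + (v10 + v10) + (v20 + v20) + (v01 + v01) + (v02 + v02) + (v11 + v11)
        + (v22 + v22) + (v12 + v12) + (v21 + v21) := by abel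
  rw [e]
  simp only [h2, add_zero]

namespace IsTM

variable (h : IsTM D M)

include h

/-- T7: nothing in `D` acts non-trivially and inverts a non-cyclic abelian 3-group -/
theorem trivial_of_inv_two {d t u : G} (hd : d ∈ D) (ht : t * t * t = 1) (hu : u * u * u = 1)
    (hc : t * u = u * t) (hdt : d * t * d = t⁻¹) (hdu : d * u * d = u⁻¹) (ht1 : t ≠ 1)
    (hu1 : u ≠ 1) (htu : t * u ≠ 1) (htu' : t * (u * u) ≠ 1) (m : M) : d • m = m := by
  have hdd := h.sq d hd
  have htu3 : (t * u) * (t * u) * (t * u) = 1 := by
    have : (t * u) * (t * u) * (t * u) = (t * t * t) * (u * u * u) := by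
      have hcc : Commute t u := hc
      calc (t * u) * (t * u) * (t * u) = (t * u) ^ 3 := by simp only [pow_succ, pow_zero, one_mul]
        _ = t ^ 3 * u ^ 3 := hcc.mul_pow 3
        _ = (t * t * t) * (u * u * u) := by simp only [pow_succ, pow_zero, one_mul]
    rw [this, ht, hu, one_mul]
  have htu3' : (t * (u * u)) * (t * (u * u)) * (t * (u * u)) = 1 := by
    have hcc : Commute t (u * u) := (show Commute t u from hc).mul_right hc
    calc (t * (u * u)) * (t * (u * u)) * (t * (u * u)) = (t * (u * u)) ^ 3 := by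
          simp only [pow_succ, pow_zero, one_mul]
      _ = t ^ 3 * (u * u) ^ 3 := hcc.mul_pow 3
      _ = (t * t * t) * ((u * u * u) * (u * u * u)) := by
          simp only [pow_succ, pow_zero, one_mul, mul_assoc]
      _ = 1 := by rw [ht, hu, one_mul, one_mul]
  have hdtu : d * (t * u) * d = (t * u)⁻¹ := by
    calc d * (t * u) * d = (d * t * d) * (d * u * d) := by
          calc d * (t * u) * d = d * t * (d * d) * u * d := by
                rw [hdd]; simp only [mul_assoc, one_mul]
            _ = _ := by simp only [mul_assoc]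
      _ = t⁻¹ * u⁻¹ := by rw [hdt, hdu]
      _ = (t * u)⁻¹ := by rw [hc, mul_inv_rev]
  have hduu : d * (u * u) * d = (u * u)⁻¹ := by
    calc d * (u * u) * d = (d * u * d) * (d * u * d) := by
          calc d * (u * u) * d = d * u * (d * d) * u * d := by
                rw [hdd]; simp only [mul_assoc, one_mul]
            _ = _ := by simp only [mul_assoc]
      _ = (u * u)⁻¹ := by rw [hdu, mul_inv_rev]
  have hdtu' : d * (t * (u * u)) * d = (t * (u * u))⁻¹ := by
    calc d * (t * (u * u)) * d = (d * t * d) * (d * (u * u) * d) := by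
          calc d * (t * (u * u)) * d = d * t * (d * d) * (u * u) * d := by
                rw [hdd]; simp only [mul_assoc, one_mul]
            _ = _ := by simp only [mul_assoc]
      _ = t⁻¹ * (u * u)⁻¹ := by rw [hdt, hduu]
      _ = (t * (u * u))⁻¹ := by
          rw [← mul_inv_rev]
          congr 1
          rw [mul_assoc u u t, ← hc, ← mul_assoc, ← hc, mul_assoc]
  have key := nine h.two m (t • m) ((t * t) • m) (u • m) ((u * u) • m) ((t * u) • m)
    ((t * u * (t * u)) • m) ((t * (u * u)) • m) ((t * t * u) • m)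
  have f1 : d • (m + t • m + (t * t) • m) = m + t • m + (t * t) • m :=
    h.fix_of_inv hd ht ht1 hdt (smul_N ht m)
  have f2 : d • (m + u • m + (u * u) • m) = m + u • m + (u * u) • m :=
    h.fix_of_inv hd hu hu1 hdu (smul_N hu m)
  have f3 : d • (m + (t * u) • m + (t * u * (t * u)) • m) =
      m + (t * u) • m + (t * u * (t * u)) • m :=
    h.fix_of_inv hd htu3 htu hdtu (smul_N htu3 m)
  have e4 : (t * (u * u)) * (t * (u * u)) = t * t * u := by
    calc (t * (u * u)) * (t * (u * u)) = t * (u * (u * t)) * u * u := by simp only [mul_assoc]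
      _ = t * t * (u * u * u) * u := by
          rw [← hc, ← mul_assoc u t u, ← hc]; simp only [mul_assoc]
      _ = t * t * u := by rw [hu, mul_one]
  have f4 : d • (m + (t * (u * u)) • m + (t * t * u) • m) =
      m + (t * (u * u)) • m + (t * t * u) • m := by
    have := h.fix_of_inv hd htu3' htu' hdtu' (smul_N htu3' m)
    rw [N_def, e4] at this
    exact this
  have e5 : (m + u • m + (u * u) • m) + (t • m + (t * u) • m + (t * (u * u)) • m) +
      ((t * t) • m + (t * t * u) • m + (t * u * (t * u)) • m) = N t (N u m) := by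
    have e6 : t * u * (t * u) = t * t * (u * u) := by
      rw [mul_assoc t u, ← mul_assoc u t u, ← hc]; simp only [mul_assoc]
    rw [e6]
    simp only [N_def, smul_add, smul_smul]
  have f5 : d • N t (N u m) = N t (N u m) := h.fix_of_inv hd ht ht1 hdt (smul_N ht _)
  rw [e5] at key
  rw [key]
  rw [smul_add, smul_add, smul_add, smul_add, f1, f2, f3, f4, f5]

end IsTM

end Cfsg.Agent.H854.TM
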