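import Cfsg.Agent.H854.UGeo2

/-!
# Stabilisers of isotropic vectors: the index is odd
-/

set_option autoImplicit false
set_option linter.unusedSectionVars false

namespace Cfsg.Agent.H854.UStab

open Cfsg Cfsg.Agent.LieClassical.HermBasic Cfsg.Agent.ClassicalGeometry.UnitTransv
open Cfsg.Agent.SporadicStructure.UnitTwo Cfsg.Agent.H854.UForm Cfsg.Agent.H854.UGeo
open scoped Matrix

variable {F : Type*} [Field F] [Fintype F] {n : ℕ}

/-- the stabiliser of a vector -/
def stab (v : Fin n → F) : Subgroup (SU n F 2) where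
  carrier := {g | act g v = v}
  mul_mem' := by
    intro a b ha hb
    change act (a * b) v = v
    rw [act_mul, show act b v = v from hb, show act a v = v from ha]
  one_mem' := act_one v
  inv_mem' := by
    intro a ha
    change act a⁻¹ v = v
    nth_rewrite 1 [← show act a v = v from ha]
    exact act_inv_act a v

theorem mem_stab {v : Fin n → F} {g : SU n F 2} : g ∈ stab v ↔ act g v = v := Iff.rfl

variable (hF : Fintype.card F = 2 ^ 2)
include hF

theorem even_iso {v : Fin n → F} (hv : hermForm n F 2 v v = 0) (hv0 : v ≠ 0) :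
    Even {x : Fin n → F | hermForm n F 2 x x = 0}.ncard := by
  classical
  have h1 : {x : Fin n → F | hermForm n F 2 x x = 0}.ncard =
      (Finset.univ.filter fun x : Fin n → F => hermForm n F 2 x x = 0).card := by
    rw [← Set.ncard_coe_finset]
    congr 1
    ext x
    simp
  rw [h1]
  have h2 : ∑ x ∈ (Finset.univ.filter fun x : Fin n → F => hermForm n F 2 x x = 0),
      (1 : ZMod 2) = 0 := by
    apply Finset.sum_involution (fun x _ => if hermForm n F 2 x v = 0 then x + v
      else x + hermForm n F 2 x v • v)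
    · intro x _
      decide
    · intro x _ _
      split_ifs with h
      · intro h3
        exact hv0 (by simpa using h3)
      · intro h3
        have : hermForm n F 2 x v • v = 0 := by simpa using h3
        rcases smul_eq_zero.1 this with h4 | h4
        · exact h h4
        · exact hv0 h4
    · intro x hx
      rw [Finset.mem_filter] at hx ⊢
      refine ⟨Finset.mem_univ _, ?_⟩
      split_ifs with h
      · rw [herm_add_left, herm_add_right hF, herm_add_right hF, hx.2, h, hv,
          herm_eq_zero_swap hF h]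
        simp
      · rw [← act_T hF v hv, herm_act]
        exact hx.2
    · intro x hx
      by_cases h : hermForm n F 2 x v = 0
      · simp only [h, if_true]
        rw [if_pos (by rw [herm_add_left, h, hv, add_zero]), add_assoc, vadd_self hF, add_zero]
      · simp only [h, if_false]
        have h4 : hermForm n F 2 (x + hermForm n F 2 x v • v) v = hermForm n F 2 x v := by
          rw [herm_add_left, herm_smul_left, hv, mul_zero, add_zero]
        rw [if_neg (by rw [h4]; exact h), h4, add_assoc, vadd_self hF, add_zero]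
  rw [Finset.sum_const, nsmul_eq_mul, mul_one] at h2
  rw [← ZMod.natCast_eq_zero_iff_even]
  exact h2

theorem odd_index (hn : 5 ≤ n) {v : Fin n → F} (hv : hermForm n F 2 v v = 0) (hv0 : v ≠ 0) :
    Odd (stab v : Subgroup (SU n F 2)).index := by
  classical
  let _ : MulAction (SU n F 2) (Fin n → F) :=
    { smul := act, one_smul := act_one, mul_smul := act_mul }
  have h1 : stab v = MulAction.stabilizer (SU n F 2) v := rfl
  have h2 : MulAction.orbit (SU n F 2) v = {x : Fin n → F | hermForm n F 2 x x = 0} \ {0} := by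
    ext x
    constructor
    · rintro ⟨g, rfl⟩
      refine ⟨?_, ?_⟩
      · change hermForm n F 2 (act g v) (act g v) = 0
        rw [herm_act, hv]
      · intro h
        have h' : act g v = 0 := h
        apply hv0
        rw [← act_inv_act g v, h', act_zero]
    · rintro ⟨h3, h4⟩
      obtain ⟨g, hg⟩ := iso_trans hF hn hv hv0 h3 h4
      exact ⟨g, hg⟩
  have h5 : (stab v : Subgroup (SU n F 2)).index = (MulAction.orbit (SU n F 2) v).ncard := by
    rw [h1]
    exact MulAction.index_stabilizer (SU n F 2) v
  rw [h5.trans (congrArg Set.ncard h2), Set.ncard_diff_singleton_of_mem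
    (show (0 : Fin n → F) ∈ {x : Fin n → F | hermForm n F 2 x x = 0} from herm_zero_left 0)]
  have h3 := even_iso hF hv hv0
  have h4 : 0 < {x : Fin n → F | hermForm n F 2 x x = 0}.ncard := by
    rw [Set.ncard_pos]
    exact ⟨0, herm_zero_left 0⟩
  rw [Nat.odd_iff]
  rw [Nat.even_iff] at h3
  omega

/-- the group generated by the transvections orthogonal to `u` -/
def Ku (u : Fin n → F) : Subgroup (SU n F 2) :=
  Subgroup.closure {g | ∃ (x : Fin n → F) (hx : hermForm n F 2 x x = 0), x ≠ 0 ∧
    hermForm n F 2 x u = 0 ∧ g = T hF x hx}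

theorem T_mem_Ku {u x : Fin n → F} (hx : hermForm n F 2 x x = 0) (hxu : hermForm n F 2 x u = 0) :
    T hF x hx ∈ Ku hF u := by
  by_cases h : x = 0
  · subst h
    rw [T_zero]
    exact one_mem _
  · exact Subgroup.subset_closure ⟨x, hx, h, hxu, rfl⟩

/-- shifting by an isotropic vector -/
theorem shift_iso {u w : Fin n → F} (hu : hermForm n F 2 u u = 0)
    (hw : hermForm n F 2 w w = 0) (hwu : hermForm n F 2 w u = 0) (x : Fin n → F)
    (hx : hermForm n F 2 x u = 1) :
    ∃ q ∈ Ku hF u, ∃ α : F, act q x = x + w + α • u := by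
  have huw := herm_eq_zero_swap hF hwu
  have h2 := two_eq_zero hF
  have hwu' : hermForm n F 2 (w + u) (w + u) = 0 := by
    rw [herm_add_left, herm_add_right hF, herm_add_right hF, hu, hw, hwu, huw]; simp
  refine ⟨T hF _ hwu' * T hF _ hw, mul_mem (T_mem_Ku hF _ (by rw [herm_add_left, hwu, hu, add_zero]))
    (T_mem_Ku hF _ hwu), hermForm n F 2 x w + 1, ?_⟩
  rw [act_mul, act_T, act_T, herm_add_left, herm_add_right hF, hx, herm_smul_left,
    herm_add_right hF, hw, hwu]
  funext i
  simp only [Pi.add_apply, Pi.smul_apply, smul_eq_mul]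
  grind

/-- vectors by which one may shift -/
def Shift (u w : Fin n → F) : Prop := hermForm n F 2 w u = 0 ∧ ∀ x : Fin n → F,
  hermForm n F 2 x u = 1 → ∃ q ∈ Ku hF u, ∃ α : F, act q x = x + w + α • u

theorem shift_add {u w w' : Fin n → F} (hu : hermForm n F 2 u u = 0)
    (hw : Shift hF u w) (hw' : Shift hF u w') : Shift hF u (w + w') := by
  refine ⟨by rw [herm_add_left, hw.1, hw'.1, add_zero], fun x hx => ?_⟩
  obtain ⟨q, hq, α, e1⟩ := hw.2 x hx
  have h1 : hermForm n F 2 (act q x) u = 1 := by
    rw [e1, herm_add_left, herm_add_left, hx, hw.1, herm_smul_left, hu]; simp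
  obtain ⟨q', hq', α', e2⟩ := hw'.2 _ h1
  refine ⟨q' * q, mul_mem hq' hq, α + α', ?_⟩
  rw [act_mul, e2, e1, add_smul]
  abel

theorem shift_zero {u : Fin n → F} : Shift hF u 0 := by
  refine ⟨herm_zero_left _, fun x _ => ⟨1, one_mem _, 0, ?_⟩⟩
  rw [act_one, zero_smul, add_zero, add_zero]

theorem shift_sum {u : Fin n → F} (hu : hermForm n F 2 u u = 0) {ι : Type*} (s : Finset ι)
    (f : ι → Fin n → F) (hf : ∀ i ∈ s, Shift hF u (f i)) : Shift hF u (∑ i ∈ s, f i) := by
  classical
  induction s using Finset.induction_on with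
  | empty => rw [Finset.sum_empty]; exact shift_zero hF
  | insert a s ha ih =>
    rw [Finset.sum_insert ha]
    exact shift_add hF hu (hf a (Finset.mem_insert_self _ _))
      (ih fun i hi => hf i (Finset.mem_insert_of_mem hi))

/-- the elements of `Ku` fix `u` -/
theorem Ku_le {u : Fin n → F} : Ku hF u ≤ stab u := by
  unfold Ku
  rw [Subgroup.closure_le]
  rintro _ ⟨x, hx, _, hxu, rfl⟩
  exact act_T_of_perp hF _ hx _ (herm_eq_zero_swap hF hxu)

/-- an element of the stabiliser of `u` can be corrected to fix also `v` -/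
theorem fix_partner {u v : Fin n → F} (hu : hermForm n F 2 u u = 0)
    (hv : hermForm n F 2 v v = 0) (hvu : hermForm n F 2 v u = 1)
    (hS : ∀ w : Fin n → F, hermForm n F 2 w u = 0 → hermForm n F 2 w v = 0 → Shift hF u w)
    (g : SU n F 2) (hg : act g u = u) :
    ∃ q ∈ Ku hF u, act (q * g) u = u ∧ act (q * g) v = v := by
  have h2 := two_eq_zero hF
  have huv : hermForm n F 2 u v = 1 := by rw [herm_swap hF v u, hvu, one_pow]
  -- `g v = v + w + α u`
  obtain ⟨x, hx⟩ : ∃ x, x = act g v := ⟨_, rfl⟩
  have hxu : hermForm n F 2 x u = 1 := by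
    calc hermForm n F 2 x u = hermForm n F 2 (act g v) (act g u) := by rw [hx, hg]
      _ = 1 := by rw [herm_act, hvu]
  have hxx : hermForm n F 2 x x = 0 := by rw [hx, herm_act, hv]
  obtain ⟨w, hw⟩ : ∃ w, w = x + v + hermForm n F 2 x v • u := ⟨_, rfl⟩
  have hwu : hermForm n F 2 w u = 0 := by
    rw [hw, herm_add_left, herm_add_left, hxu, hvu, herm_smul_left, hu]
    linear_combination h2
  have hwv : hermForm n F 2 w v = 0 := by
    rw [hw, herm_add_left, herm_add_left, hv, herm_smul_left, huv]
    linear_combination hermForm n F 2 x v * h2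
  obtain ⟨q, hq, α, e1⟩ := (hS w hwu hwv).2 x hxu
  have e2 : act q x = v + (hermForm n F 2 x v + α) • u := by
    rw [e1, hw, add_smul]
    funext i
    simp only [Pi.add_apply, Pi.smul_apply, smul_eq_mul]
    grind
  obtain ⟨β, hβ⟩ : ∃ β, β = hermForm n F 2 x v + α := ⟨_, rfl⟩
  rw [← hβ] at e2
  have e3 : hermForm n F 2 (act q x) (act q x) = 0 := by rw [herm_act, hxx]
  rw [e2, herm_add_left, herm_add_right hF, herm_add_right hF, herm_smul_left, herm_smul_right,
    herm_smul_left, herm_smul_right, hu, hv, hvu, huv] at e3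
  have e4 : β ^ 2 = β := by grind
  have hqu : act q u = u := Ku_le hF hq
  rcases zero_or_one_of_fixed hF e4 with h3 | h3
  · refine ⟨q, hq, by rw [act_mul, hg, hqu], ?_⟩
    rw [act_mul, ← hx, e2, h3, zero_smul, add_zero]
  · refine ⟨T hF u hu * q, mul_mem (T_mem_Ku hF hu hu) hq, ?_, ?_⟩
    · rw [act_mul, hg, act_mul, hqu, act_T_of_perp hF _ hu _ hu]
    · rw [act_mul, act_mul, ← hx, e2, h3, one_smul, act_T, herm_add_left, hvu, hu, add_zero,
        one_smul, add_assoc, vadd_self hF, add_zero]

end Cfsg.Agent.H854.UStab
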